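import Groth.Agent.PCohHom.Module
import Groth.Agent.KoszulLCI.SmoothCancel
import Groth.Agent.S7068
import Mathlib.RingTheory.TensorProduct.MvPolynomial

/-!
# Pseudo-coherent ring maps: independence of the presentation, composition, cancellation, flat base change
-/

set_option autoImplicit false

universe u

open CategoryTheory TensorProduct
open MvPolynomial (X C eval₂Hom)

attribute [local instance] HasDerivedCategory.standard

namespace Groth.PCohHom

section Along

variable {T P B : Type u} [CommRing T] [CommRing P] [CommRing B]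

/-- `B` is a pseudo-coherent module along `θ : P → B`. -/
def PCAlong (θ : P →+* B) : Prop :=
  letI := θ.toAlgebra
  DRing.IsPseudoCoherentModule' P B

theorem pcAlong_algebraMap [Algebra P B] : PCAlong (algebraMap P B) ↔ DRing.IsPseudoCoherentModule' P B := by
  unfold PCAlong
  rw [show (algebraMap P B).toAlgebra = ‹Algebra P B› from Algebra.algebra_ext _ _ fun _ => rfl]

theorem pcAlong_bijective (θ : P →+* B) (h : Function.Bijective θ) : PCAlong θ := by
  let _ := θ.toAlgebra
  let e : P ≃ₗ[P] B := LinearEquiv.ofBijective (Algebra.linearMap P B) h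
  exact pc_iff.2 fun n => (fpk_of_free (M := P) n).congr e

/-- Change of rings along a pseudo-coherent map. -/
theorem PCAlong.comp_iff {μ : T →+* P} (hμ : PCAlong μ) (ψ : P →+* B) : PCAlong (ψ.comp μ) ↔ PCAlong ψ := by
  let _ := μ.toAlgebra
  let _ := ψ.toAlgebra
  let _ := (ψ.comp μ).toAlgebra
  have : IsScalarTower T P B := IsScalarTower.of_algebraMap_eq fun _ => rfl
  exact (pc_iff_restrictScalars hμ B).symm

theorem PCAlong.comp {μ : T →+* P} (hμ : PCAlong μ) {ψ : P →+* B} (hψ : PCAlong ψ) : PCAlong (ψ.comp μ) :=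
  (hμ.comp_iff ψ).2 hψ

theorem pcAlong_of_koszulSeq (μ : T →+* P) (hs : Function.Surjective μ) (l : List T)
    (hl : LCI.IsKoszulRegularSeq T l) (hker : RingHom.ker μ = Ideal.ofList l) : PCAlong μ := by
  let _ := μ.toAlgebra
  have h : DRing.IsPseudoCoherentModule' T (T ⧸ Ideal.ofList l) :=
    DAlg.IsPerfect.isPseudoCoherent' (KoszulLCI.perfect_quotient_of_isKoszulRegularSeq l hl).1
  let e : (T ⧸ Ideal.ofList l) ≃ₐ[T] P :=
    (Ideal.quotientEquivAlgOfEq T hker.symm).trans (Ideal.quotientKerAlgEquivOfSurjective (f := Algebra.ofId T P) hs)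
  exact pc_iff.2 fun n => ((pc_iff.1 h) n).congr e.toLinearEquiv

/-- Flat base change. -/
theorem pcAlong_baseChange {P' B' : Type u} [CommRing P'] [CommRing B'] [Algebra P B] [Algebra P P']
    [Algebra P' B'] [Algebra B B'] [Algebra P B'] [IsScalarTower P P' B'] [IsScalarTower P B B']
    [Module.Flat P P'] [Algebra.IsPushout P P' B B'] (h : PCAlong (algebraMap P B)) :
    PCAlong (algebraMap P' B') :=
  pcAlong_algebraMap.2 (pc_iff.2 fun n =>
    (fpk_baseChange n B ((pc_iff.1 (pcAlong_algebraMap.1 h)) n)).congr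
      (Algebra.IsPushout.equiv P P' B B').toLinearEquiv)

theorem pcAlong_map {σ : Type u} (θ : P →+* B) (h : PCAlong θ) :
    PCAlong (MvPolynomial.map (σ := σ) θ) := by
  let _ := θ.toAlgebra
  let _ : Algebra (MvPolynomial σ P) (MvPolynomial σ B) := MvPolynomial.algebraMvPolynomial
  exact pcAlong_baseChange (P := P) (B := B) (P' := MvPolynomial σ P) (B' := MvPolynomial σ B) h

end Along

section Retraction

variable {P : Type u} [CommRing P] {n : ℕ} (g : Fin n → P)

theorem ker_eval : RingHom.ker (eval₂Hom (RingHom.id P) g) =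
    Ideal.ofList (List.ofFn fun i => X i - C (g i)) := by
  let I := Ideal.ofList (List.ofFn fun i : Fin n => (X i - C (g i) : MvPolynomial (Fin n) P))
  refine le_antisymm (fun p hp => ?_) ?_
  · have key : ∀ p : MvPolynomial (Fin n) P, p - C (eval₂Hom (RingHom.id P) g p) ∈ I := by
      intro p
      induction p using MvPolynomial.induction_on with
      | C a => simp
      | add p q hp hq =>
        rw [map_add, map_add, add_sub_add_comm]
        exact add_mem hp hq
      | mul_X p i hp =>
        have hi : X i - C (g i) ∈ I := KoszulLCI.mem_ofList (by simp [List.mem_ofFn])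
        rw [map_mul, MvPolynomial.eval₂Hom_X', map_mul,
          show p * X i - C (eval₂Hom (RingHom.id P) g p) * C (g i) =
            (p - C (eval₂Hom (RingHom.id P) g p)) * X i + C (eval₂Hom (RingHom.id P) g p) * (X i - C (g i)) by ring]
        exact add_mem (Ideal.mul_mem_right _ _ hp) (Ideal.mul_mem_left _ _ hi)
    have h1 := key p
    rw [RingHom.mem_ker.mp hp, map_zero, sub_zero] at h1
    exact h1
  · refine Ideal.span_le.2 fun x hx => ?_
    obtain ⟨i, rfl⟩ : ∃ i, X i - C (g i) = x := by simpa [List.mem_ofFn] using hx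
    simp [RingHom.mem_ker]

theorem pcAlong_eval : PCAlong (eval₂Hom (RingHom.id P) g) :=
  pcAlong_of_koszulSeq _ (fun p => ⟨C p, by simp⟩) _ (KoszulLCI.isKoszulRegularSeq_sub_C n P g) (ker_eval g)

end Retraction

variable {A B : Type u} [CommRing A] [CommRing B] [Algebra A B]

/-- Pseudo-coherence over one polynomial presentation gives it over any other. -/
theorem pcAlong_presentation_congr {m n : ℕ} (φ : MvPolynomial (Fin m) A →ₐ[A] B) (hφ : Function.Surjective φ)
    (φ' : MvPolynomial (Fin n) A →ₐ[A] B) (hφ' : Function.Surjective φ') (h : PCAlong φ.toRingHom) :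
    PCAlong φ'.toRingHom := by
  let σ := ULift.{u} (Fin m)
  let τ := ULift.{u} (Fin n)
  let P := MvPolynomial (Fin m) A
  let Q := MvPolynomial (Fin n) A
  choose g hg using fun j : Fin n => hφ (φ' (X j))
  choose k hk using fun i : Fin m => hφ' (φ (X i))
  let T := MvPolynomial (Fin n) P
  let T' := MvPolynomial (Fin m) Q
  let e₁ : T →+* T' := eval₂Hom (eval₂Hom (C.comp C) X) fun j => C (X j)
  let e₂ : T' →+* T := eval₂Hom (eval₂Hom (C.comp C) X) fun i => C (X i)
  have he : Function.Bijective e₂ := by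
    refine Function.bijective_iff_has_inverse.2 ⟨e₁, fun p => ?_, fun p => ?_⟩
    · suffices e₁.comp e₂ = RingHom.id _ from RingHom.congr_fun this p
      refine MvPolynomial.ringHom_ext (fun q => ?_) fun i => by simp [e₁, e₂, T, T', P, Q]
      suffices (e₁.comp e₂).comp C = C from RingHom.congr_fun this q
      exact MvPolynomial.ringHom_ext (fun a => by simp [e₁, e₂, T, T', P, Q]) fun j => by simp [e₁, e₂, T, T', P, Q]
    · suffices e₂.comp e₁ = RingHom.id _ from RingHom.congr_fun this p
      refine MvPolynomial.ringHom_ext (fun q => ?_) fun i => by simp [e₁, e₂, T, T', P, Q]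
      suffices (e₂.comp e₁).comp C = C from RingHom.congr_fun this q
      exact MvPolynomial.ringHom_ext (fun a => by simp [e₁, e₂, T, T', P, Q]) fun j => by simp [e₁, e₂, T, T', P, Q]
  let μ : T →+* P := eval₂Hom (RingHom.id P) g
  let μ' : T' →+* Q := eval₂Hom (RingHom.id Q) k
  have hT : PCAlong (φ.toRingHom.comp μ) := (pcAlong_eval g).comp h
  have heq : φ'.toRingHom.comp μ' = (φ.toRingHom.comp μ).comp e₂ := by
    refine MvPolynomial.ringHom_ext (fun q => ?_) fun i => by simp [μ, μ', e₂, hk, T, T', P, Q]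
    suffices (φ'.toRingHom.comp μ').comp C = ((φ.toRingHom.comp μ).comp e₂).comp C from
      RingHom.congr_fun this q
    exact MvPolynomial.ringHom_ext (fun a => by simp [μ, μ', e₂, T, T', P, Q]) fun j => by simp [μ, μ', e₂, hg, T, T', P, Q]
  have hT' : PCAlong (φ'.toRingHom.comp μ') := heq ▸ (pcAlong_bijective e₂ he).comp hT
  exact ((pcAlong_eval k).comp_iff _).1 hT'

/-- Pseudo-coherence of a ring map is tested on any presentation. -/
theorem pcHom_iff {n : ℕ} (φ : MvPolynomial (Fin n) A →ₐ[A] B) (hφ : Function.Surjective φ) :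
    MoreMor.IsPseudoCoherentHom A B ↔ PCAlong φ.toRingHom :=
  ⟨fun ⟨_, φ', hφ', h⟩ => pcAlong_presentation_congr φ' hφ' φ hφ h, fun h => ⟨n, φ, hφ, h⟩⟩

theorem finiteType_of_pcHom (h : MoreMor.IsPseudoCoherentHom A B) : Algebra.FiniteType A B :=
  let ⟨_, φ, hφ, _⟩ := h
  Algebra.FiniteType.of_surjective φ hφ

/-- A presentation by finitely many variables of any index type. -/
theorem pcHom_of_presentation {σ : Type u} [Finite σ] (φ : MvPolynomial σ A →ₐ[A] B)
    (hφ : Function.Surjective φ) (h : PCAlong φ.toRingHom) : MoreMor.IsPseudoCoherentHom A B := by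
  obtain ⟨n, ⟨e⟩⟩ := Finite.exists_equiv_fin σ
  let E := MvPolynomial.renameEquiv A e.symm
  refine ⟨n, φ.comp E.toAlgHom, hφ.comp E.surjective, ?_⟩
  exact (pcAlong_bijective E.toRingEquiv.toRingHom E.bijective).comp h

/-- Surjections from a pseudo-coherent algebra. -/
theorem pcHom_iff_of_surjective {P : Type u} [CommRing P] [Algebra A P] (hP : MoreMor.IsPseudoCoherentHom A P)
    (ψ : P →ₐ[A] B) (hψ : Function.Surjective ψ) :
    MoreMor.IsPseudoCoherentHom A B ↔ PCAlong ψ.toRingHom := by
  obtain ⟨n, φ, hφ, h⟩ := hP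
  rw [pcHom_iff (ψ.comp φ) (hψ.comp hφ)]
  exact PCAlong.comp_iff (μ := φ.toRingHom) h ψ.toRingHom

theorem pcHom_mvPolynomial (h : MoreMor.IsPseudoCoherentHom A B) (n : ℕ) :
    MoreMor.IsPseudoCoherentHom A (MvPolynomial (Fin n) B) := by
  obtain ⟨m, φ, hφ, hpc⟩ := h
  let σ := ULift.{u} (Fin n)
  let τ := ULift.{u} (Fin m)
  let r : MvPolynomial σ B →ₐ[A] MvPolynomial (Fin n) B :=
    ((MvPolynomial.renameEquiv B Equiv.ulift).toAlgHom).restrictScalars A
  let φτ : MvPolynomial τ A →ₐ[A] B := φ.comp (MvPolynomial.renameEquiv A Equiv.ulift).toAlgHom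
  have hφτ : PCAlong φτ.toRingHom :=
    (pcAlong_bijective (MvPolynomial.renameEquiv A (Equiv.ulift.{u} : τ ≃ Fin m)).toRingEquiv.toRingHom
      (MvPolynomial.renameEquiv A Equiv.ulift).bijective).comp hpc
  let s := (MvPolynomial.sumAlgEquiv A σ τ)
  let Φ : MvPolynomial (σ ⊕ τ) A →ₐ[A] MvPolynomial (Fin n) B :=
    (r.comp (MvPolynomial.mapAlgHom φτ)).comp s.toAlgHom
  refine pcHom_of_presentation Φ ?_ ?_
  · exact ((MvPolynomial.renameEquiv B Equiv.ulift).surjective.comp
      (MvPolynomial.map_surjective φτ.toRingHom (hφ.comp (MvPolynomial.renameEquiv A Equiv.ulift).surjective))).comp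
      s.surjective
  · exact (pcAlong_bijective s.toRingEquiv.toRingHom s.bijective).comp
      ((pcAlong_map φτ.toRingHom hφτ).comp
        (pcAlong_bijective r.toRingHom (MvPolynomial.renameEquiv B Equiv.ulift).bijective))

variable {C : Type u} [CommRing C] [Algebra A C] [Algebra B C] [IsScalarTower A B C]

/-- Composition. -/
theorem pcHom_trans (hAB : MoreMor.IsPseudoCoherentHom A B) (hBC : MoreMor.IsPseudoCoherentHom B C) :
    MoreMor.IsPseudoCoherentHom A C := by
  obtain ⟨n, ψ, hψ, h⟩ := hBC
  exact (pcHom_iff_of_surjective (pcHom_mvPolynomial hAB n) (ψ.restrictScalars A) hψ).2 h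

/-- Cancellation. -/
theorem pcHom_cancel (hAB : MoreMor.IsPseudoCoherentHom A B) (hAC : MoreMor.IsPseudoCoherentHom A C) :
    MoreMor.IsPseudoCoherentHom B C := by
  have := finiteType_of_pcHom hAC
  have : Algebra.FiniteType B C := Algebra.FiniteType.of_restrictScalars_finiteType A B C
  obtain ⟨n, ψ, hψ⟩ := Algebra.FiniteType.iff_quotient_mvPolynomial''.1 this
  exact ⟨n, ψ, hψ, (pcHom_iff_of_surjective (pcHom_mvPolynomial hAB n) (ψ.restrictScalars A) hψ).1 hAC⟩

theorem pcHom_of_flat_finitePresentation (A B : Type u) [CommRing A] [CommRing B] [Algebra A B]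
    [Module.Flat A B] [Algebra.FinitePresentation A B] : MoreMor.IsPseudoCoherentHom A B :=
  (Groth.Agent.S7068.result A B).1

end Groth.PCohHom
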