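import Groth.Agent.PCohHom.Mor
import Groth.Agent.KoszulLCI.TorPolynomial

/-!
# Perfect modules under change of rings; perfect ring maps
-/

set_option autoImplicit false

universe u

open CategoryTheory TensorProduct AlgebraicGeometry

attribute [local instance] HasDerivedCategory.standard

namespace Groth.PCohHom

open Groth.DAlg Groth.KoszulLCI

variable {R S : Type u} [CommRing R] [CommRing S] [Algebra R S]

/-- Perfect modules are the pseudo-coherent ones of finite tor dimension. -/
theorem perf_iff {M : Type u} [AddCommGroup M] [Module R M] :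
    DRing.IsPerfectModule R M ↔ DRing.IsPseudoCoherentModule' R M ∧ DRing.HasFiniteTorDim R M := by
  rw [hasFiniteTorDim_iff]
  constructor
  · intro h
    obtain ⟨a, b, hab⟩ := (isPerfect_iff.1 h).2
    exact ⟨DAlg.IsPerfect.isPseudoCoherent' h, (-a).toNat, TorAmp.top (TorAmp.mono hab (by omega) le_rfl)
      fun i hi => subsingleton_HD_mD _ (ne_of_gt hi)⟩
  · rintro ⟨h, d, hd⟩
    exact isPerfect_iff.2 ⟨h, _, _, hd⟩

theorem torAmp_fin {d : ℕ} {M : Type u} [AddCommGroup M] [Module R M]
    (h : DRing.HasTorAmplitudeIn R (-(d : ℤ)) 0 (Dual.inD R M)) :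
    ∀ r : ℕ, DRing.HasTorAmplitudeIn R (-(d : ℤ)) 0 (Dual.inD R (Fin r → M)) := by
  intro r
  induction r with
  | zero => exact TorAmp.mono (torAmp_mD_of_flat (ModuleCat.of R (Fin 0 → M))) (by omega) le_rfl
  | succ r ih =>
    have hex : Function.Exact (LinearMap.single R (fun _ : Fin (r + 1) => M) 0) (LinearMap.funLeft R M Fin.succ) := by
      intro f
      constructor
      · intro hf
        refine ⟨f 0, ?_⟩
        funext a
        refine Fin.cases ?_ (fun b => ?_) a
        · simp
        · simpa using (congrFun hf b).symm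
      · rintro ⟨x, rfl⟩
        funext b
        simp [LinearMap.funLeft_apply]
    exact TorAmp.ext (KoszulLCI.shortExact_mk (fun a b hab => by simpa using congrFun hab 0) hex
      (LinearMap.funLeft_surjective_of_injective R M _ (Fin.succ_injective r))).singleTriangle_distinguished h ih

/-- Tor amplitude through a ring of finite tor amplitude. -/
theorem torAmp_trans {e : ℕ} (hS : DRing.HasTorAmplitudeIn R (-(e : ℤ)) 0 (Dual.inD R S)) :
    ∀ (d : ℕ) (M : Type u) [AddCommGroup M] [Module R M] [Module S M] [IsScalarTower R S M],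
      DRing.IsPseudoCoherentModule' S M → DRing.HasTorAmplitudeIn S (-(d : ℤ)) 0 (Dual.inD S M) →
      DRing.HasTorAmplitudeIn R (-((d + e : ℕ) : ℤ)) 0 (Dual.inD R M) := by
  intro d
  induction d with
  | zero =>
    intro M _ _ _ _ hpc h
    have : Module.Flat S M := flat_of_torAmp_zero (M := ModuleCat.of S M) (TorAmp.mono h (by simp) le_rfl)
    have : Module.FinitePresentation S M := (pcn_neg_one_mD_iff (ModuleCat.of S M)).1 ((pc_iff.1 hpc) 1)
    have : Module.Projective S M := Module.Flat.projective_of_finitePresentation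
    obtain ⟨r, π, hπ⟩ := Module.Finite.exists_fin' S M
    obtain ⟨s, hs⟩ := Module.projective_lifting_property π LinearMap.id hπ
    refine TorAmp.retract ((DerivedCategory.singleFunctor (ModuleCat.{u} R) 0).map (ModuleCat.ofHom (s.restrictScalars R)))
      ((DerivedCategory.singleFunctor (ModuleCat.{u} R) 0).map (ModuleCat.ofHom (π.restrictScalars R))) ?_
      (TorAmp.mono (torAmp_fin hS r) (by omega) le_rfl)
    rw [← Functor.map_comp, ← CategoryTheory.Functor.map_id]
    congr 1
    ext x
    exact LinearMap.congr_fun hs x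
  | succ d ih =>
    intro M _ _ _ _ hpc h
    have := ((pc_iff.1 hpc) 0).finite
    obtain ⟨r, π, hπ⟩ := Module.Finite.exists_fin' S M
    let K := LinearMap.ker π
    have hK : DRing.IsPseudoCoherentModule' S K := pc_iff.2 fun n =>
      fpk_ker (i := K.subtype) (π := π) Subtype.val_injective π.exact_subtype_ker_map hπ (fpk_of_free n)
        ((pc_iff.1 hpc) (n + 1))
    have hKa := (hasTorAmp_succ_iff (i := K.subtype) (π := π) Subtype.val_injective π.exact_subtype_ker_map hπ d).1 h
    have h1 : DRing.HasTorAmplitudeIn R (-((d + 1 + e : ℕ) : ℤ) + 1) (0 + 1) (Dual.inD R K) :=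
      TorAmp.mono (ih K hK hKa) (by omega) (by omega)
    have h2 : DRing.HasTorAmplitudeIn R (-((d + 1 + e : ℕ) : ℤ)) 0 (Dual.inD R (Fin r → S)) :=
      TorAmp.mono (torAmp_fin hS r) (by omega) le_rfl
    exact TorAmp.cone (KoszulLCI.shortExact_mk (i := K.subtype.restrictScalars R) (π := π.restrictScalars R)
      Subtype.val_injective π.exact_subtype_ker_map hπ).singleTriangle_distinguished h1 h2

/-- Perfect modules over a perfect algebra are perfect. -/
theorem perf_restrictScalars (hS : DRing.IsPerfectModule R S) (M : Type u) [AddCommGroup M] [Module R M]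
    [Module S M] [IsScalarTower R S M] (hM : DRing.IsPerfectModule S M) : DRing.IsPerfectModule R M := by
  obtain ⟨hS1, hS2⟩ := perf_iff.1 hS
  obtain ⟨hM1, hM2⟩ := perf_iff.1 hM
  obtain ⟨e, he⟩ := (hasFiniteTorDim_iff S).1 hS2
  obtain ⟨d, hd⟩ := (hasFiniteTorDim_iff M).1 hM2
  exact perf_iff.2 ⟨(pc_iff_restrictScalars hS1 M).1 hM1,
    (hasFiniteTorDim_iff M).2 ⟨d + e, torAmp_trans he d M hM1 hd⟩⟩

/-- Flat base change of perfect modules. -/
theorem perf_baseChange [Module.Flat R S] (M : Type u) [AddCommGroup M] [Module R M]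
    (hM : DRing.IsPerfectModule R M) : DRing.IsPerfectModule S (S ⊗[R] M) := by
  obtain ⟨h1, h2⟩ := perf_iff.1 hM
  obtain ⟨d, hd⟩ := (hasFiniteTorDim_iff M).1 h2
  exact perf_iff.2 ⟨pc_iff.2 fun n => fpk_baseChange n M ((pc_iff.1 h1) n),
    (hasFiniteTorDim_iff _).2 ⟨d, hasTorAmp_baseChange S M hd⟩⟩

theorem torAmp_descent_step [Module.FaithfullyFlat R S] {F M : Type u} [AddCommGroup F] [Module R F] [Module.Flat R F]
    [AddCommGroup M] [Module R M] (π : F →ₗ[R] M) (hπ : Function.Surjective π) (d : ℕ)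
    (ih : DRing.HasTorAmplitudeIn S (-(d : ℤ)) 0 (Dual.inD S (S ⊗[R] LinearMap.ker π)) →
      DRing.HasTorAmplitudeIn R (-(d : ℤ)) 0 (Dual.inD R (LinearMap.ker π)))
    (h : DRing.HasTorAmplitudeIn S (-((d + 1 : ℕ) : ℤ)) 0 (Dual.inD S (S ⊗[R] M))) :
    DRing.HasTorAmplitudeIn R (-((d + 1 : ℕ) : ℤ)) 0 (Dual.inD R M) := by
  refine (hasTorAmp_succ_iff (i := (LinearMap.ker π).subtype) (π := π) Subtype.val_injective
    π.exact_subtype_ker_map hπ d).2 (ih ?_)
  exact (hasTorAmp_succ_iff (i := (LinearMap.ker π).subtype.baseChange S) (π := π.baseChange S)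
    (Module.Flat.lTensor_preserves_injective_linearMap (LinearMap.ker π).subtype Subtype.val_injective)
    (lTensor_exact S π.exact_subtype_ker_map hπ) (LinearMap.lTensor_surjective S hπ) d).1 h

/-- Tor amplitude descends along faithfully flat ring maps. -/
theorem torAmp_descent [Module.FaithfullyFlat R S] :
    ∀ (d : ℕ) (M : Type u) [AddCommGroup M] [Module R M],
      DRing.HasTorAmplitudeIn S (-(d : ℤ)) 0 (Dual.inD S (S ⊗[R] M)) →
      DRing.HasTorAmplitudeIn R (-(d : ℤ)) 0 (Dual.inD R M) := by
  intro d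
  induction d with
  | zero =>
    intro M _ _ h
    have : Module.Flat S (S ⊗[R] M) :=
      flat_of_torAmp_zero (M := ModuleCat.of S (S ⊗[R] M)) (TorAmp.mono h (by simp) le_rfl)
    have : Module.Flat R M := Module.Flat.of_flat_tensorProduct R M S
    exact TorAmp.mono (torAmp_mD_of_flat (ModuleCat.of R M)) (by simp) le_rfl
  | succ d ih =>
    intro M _ _ h
    exact torAmp_descent_step (Finsupp.linearCombination R (id : M → M))
      (fun x => ⟨Finsupp.single x 1, by simp⟩) d (fun h' => ih _ h') h

section Along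

variable {T P B : Type u} [CommRing T] [CommRing P] [CommRing B]

/-- `B` is a perfect module along `θ`. -/
def PerfAlong (θ : P →+* B) : Prop :=
  letI := θ.toAlgebra
  DRing.IsPerfectModule P B

theorem perfAlong_algebraMap [Algebra P B] : PerfAlong (algebraMap P B) ↔ DRing.IsPerfectModule P B := by
  unfold PerfAlong
  rw [show (algebraMap P B).toAlgebra = ‹Algebra P B› from Algebra.algebra_ext _ _ fun _ => rfl]

theorem perfAlong_bijective (θ : P →+* B) (h : Function.Bijective θ) : PerfAlong θ := by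
  let _ := θ.toAlgebra
  exact isPerfectModule_congr (LinearEquiv.ofBijective (Algebra.linearMap P B) h)
    (isPerfectModule_of_finite_projective P)

theorem PerfAlong.comp {μ : T →+* P} (hμ : PerfAlong μ) {ψ : P →+* B} (hψ : PerfAlong ψ) :
    PerfAlong (ψ.comp μ) := by
  let _ := μ.toAlgebra
  let _ := ψ.toAlgebra
  let _ := (ψ.comp μ).toAlgebra
  have : IsScalarTower T P B := IsScalarTower.of_algebraMap_eq fun _ => rfl
  exact perf_restrictScalars hμ B hψ

theorem perfAlong_map {σ : Type u} (θ : P →+* B) (h : PerfAlong θ) :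
    PerfAlong (MvPolynomial.map (σ := σ) θ) := by
  let _ := θ.toAlgebra
  let _ : Algebra (MvPolynomial σ P) (MvPolynomial σ B) := MvPolynomial.algebraMvPolynomial
  have : Algebra.IsPushout P (MvPolynomial σ P) B (MvPolynomial σ B) := inferInstance
  exact perfAlong_algebraMap.2 (isPerfectModule_congr
    (Algebra.IsPushout.equiv P (MvPolynomial σ P) B (MvPolynomial σ B)).toLinearEquiv
    (perf_baseChange (S := MvPolynomial σ P) B h))

end Along

variable {A B : Type u} [CommRing A] [CommRing B] [Algebra A B]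

/-- Perfection of a ring map is tested on any presentation. -/
theorem perfHom_iff {n : ℕ} (φ : MvPolynomial (Fin n) A →ₐ[A] B) (hφ : Function.Surjective φ) :
    MoreMor.IsPerfectHom A B ↔ PerfAlong φ.toRingHom := by
  let _ := φ.toRingHom.toAlgebra
  have : IsScalarTower A (MvPolynomial (Fin n) A) B := IsScalarTower.of_algebraMap_eq fun a => (φ.commutes a).symm
  constructor
  · rintro ⟨hpc, htor⟩
    exact perf_iff.2 ⟨(pcHom_iff φ hφ).1 hpc, hasFiniteTorDim_mvPolynomial (m := n) B htor⟩
  · intro h
    obtain ⟨h1, h2⟩ := perf_iff.1 h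
    obtain ⟨d, hd⟩ := (hasFiniteTorDim_iff B).1 h2
    exact ⟨⟨n, φ, hφ, h1⟩, (hasFiniteTorDim_iff B).2
      ⟨d, hasTorAmp_restrictScalars (P := MvPolynomial (Fin n) A) d B hd⟩⟩

theorem perfHom_of_presentation {σ : Type u} [Finite σ] (φ : MvPolynomial σ A →ₐ[A] B)
    (hφ : Function.Surjective φ) (h : PerfAlong φ.toRingHom) : MoreMor.IsPerfectHom A B := by
  obtain ⟨n, ⟨e⟩⟩ := Finite.exists_equiv_fin σ
  let E := MvPolynomial.renameEquiv A e.symm
  refine (perfHom_iff (φ.comp E.toAlgHom) (hφ.comp E.surjective)).2 ?_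
  exact (perfAlong_bijective E.toRingEquiv.toRingHom E.bijective).comp h

/-- Composition. -/
theorem perfHom_trans {C : Type u} [CommRing C] [Algebra A C] [Algebra B C] [IsScalarTower A B C]
    (hAB : MoreMor.IsPerfectHom A B) (hBC : MoreMor.IsPerfectHom B C) : MoreMor.IsPerfectHom A C := by
  obtain ⟨m, φ, hφ, -⟩ := hAB.1
  obtain ⟨n, ψ, hψ, -⟩ := hBC.1
  have h1 := (perfHom_iff φ hφ).1 hAB
  have h2 := (perfHom_iff ψ hψ).1 hBC
  let σ := ULift.{u} (Fin n)
  let τ := ULift.{u} (Fin m)
  let φτ : MvPolynomial τ A →ₐ[A] B := φ.comp (MvPolynomial.renameEquiv A Equiv.ulift).toAlgHom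
  have hφτ : PerfAlong φτ.toRingHom :=
    (perfAlong_bijective (MvPolynomial.renameEquiv A (Equiv.ulift.{u} : τ ≃ Fin m)).toRingEquiv.toRingHom
      (MvPolynomial.renameEquiv A Equiv.ulift).bijective).comp h1
  let ψσ : MvPolynomial σ B →ₐ[B] C := ψ.comp (MvPolynomial.renameEquiv B Equiv.ulift).toAlgHom
  have hψσ : PerfAlong ψσ.toRingHom :=
    (perfAlong_bijective (MvPolynomial.renameEquiv B (Equiv.ulift.{u} : σ ≃ Fin n)).toRingEquiv.toRingHom
      (MvPolynomial.renameEquiv B Equiv.ulift).bijective).comp h2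
  let s := MvPolynomial.sumAlgEquiv A σ τ
  let Φ : MvPolynomial (σ ⊕ τ) A →ₐ[A] C :=
    ((ψσ.restrictScalars A).comp (MvPolynomial.mapAlgHom φτ)).comp s.toAlgHom
  refine perfHom_of_presentation Φ ?_ ?_
  · exact ((hψ.comp (MvPolynomial.renameEquiv B Equiv.ulift).surjective).comp
      (MvPolynomial.map_surjective φτ.toRingHom (hφ.comp (MvPolynomial.renameEquiv A Equiv.ulift).surjective))).comp
      s.surjective
  · exact (perfAlong_bijective s.toRingEquiv.toRingHom s.bijective).comp
      ((perfAlong_map φτ.toRingHom hφτ).comp hψσ)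

/-- Flat base change. -/
theorem perfHom_baseChange {A' B' : Type u} [CommRing A'] [CommRing B'] [Algebra A A'] [Algebra A' B']
    [Algebra B B'] [Algebra A B'] [IsScalarTower A A' B'] [IsScalarTower A B B'] [Module.Flat A A']
    [Algebra.IsPushout A A' B B'] (h : MoreMor.IsPerfectHom A B) : MoreMor.IsPerfectHom A' B' := by
  obtain ⟨d, hd⟩ := (hasFiniteTorDim_iff B).1 h.2
  exact ⟨pcHom_baseChange (A := A) (B := B) h.1, (hasFiniteTorDim_iff B').2 ⟨d,
    hasTorAmp_congr (Algebra.IsPushout.equiv A A' B B').toLinearEquiv (hasTorAmp_baseChange A' B hd)⟩⟩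

/-- Localisations are perfect. -/
theorem perfHom_away (r : A) (S : Type u) [CommRing S] [Algebra A S] [IsLocalization.Away r S] :
    MoreMor.IsPerfectHom A S := by
  have : Module.Flat A S := IsLocalization.flat S (Submonoid.powers r)
  have : Algebra.FinitePresentation A S := IsLocalization.Away.finitePresentation r
  exact Groth.Agent.S7068.result A S

/-- Descent along faithfully flat ring maps. -/
theorem perfHom_of_baseChange {A' : Type u} [CommRing A'] [Algebra A A'] [Module.FaithfullyFlat A A']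
    (h : MoreMor.IsPerfectHom A' (A' ⊗[A] B)) : MoreMor.IsPerfectHom A B := by
  obtain ⟨d, hd⟩ := (hasFiniteTorDim_iff _).1 h.2
  exact ⟨pcHom_of_baseChange h.1, (hasFiniteTorDim_iff B).2 ⟨d, torAmp_descent d B hd⟩⟩

set_option backward.isDefEq.respectTransparency false in
set_option backward.isDefEq.respectTransparency.types false in
/-- Perfection is local on the target. -/
theorem perfHom_of_span {t : Set B} (ht : Ideal.span t = ⊤)
    (h : ∀ g ∈ t, MoreMor.IsPerfectHom A (Localization.Away g)) : MoreMor.IsPerfectHom A B := by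
  classical
  obtain ⟨t', htt, hspan⟩ := (Ideal.span_eq_top_iff_finite t).1 ht
  have hpc := pcHom_of_span ht fun g hg => (h g hg).1
  obtain ⟨n, φ, hφ, hpcm⟩ := id hpc
  refine (perfHom_iff φ hφ).2 ?_
  let P := MvPolynomial (Fin n) A
  let _ := φ.toRingHom.toAlgebra
  have : IsScalarTower A P B := IsScalarTower.of_algebraMap_eq fun a => (φ.commutes a).symm
  choose! d hd using fun g (hg : g ∈ t) => (hasFiniteTorDim_iff (Localization.Away g)).1 (h g hg).2
  let D := t'.sup d + n
  let H : Set P := φ ⁻¹' t' ∪ RingHom.ker φ.toRingHom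
  have hH : Ideal.span H = ⊤ := by
    have h1 : (Ideal.span (φ ⁻¹' t')).map φ.toRingHom = ⊤ := by
      rw [Ideal.map_span]
      show Ideal.span (φ '' (φ ⁻¹' t')) = ⊤
      rw [Set.image_preimage_eq _ hφ, hspan]
    have h2 := congrArg (Ideal.comap φ.toRingHom) h1
    rw [Ideal.comap_map_of_surjective' φ.toRingHom hφ, Ideal.comap_top] at h2
    rw [Ideal.span_union, Ideal.span_eq]
    exact h2
  refine isPerfectModule_of_span hH D B fun h' => ?_
  obtain ⟨x, hx⟩ := h'
  let Px := Localization.Away x
  have hamp : DRing.HasTorAmplitudeIn Px (-(D : ℤ)) 0 (Dual.inD Px (Px ⊗[P] B)) := by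
    rcases hx with hx | hx
    · let g := φ x
      let Bg := Localization.Away g
      have hg : g ∈ t' := hx
      let ψ₀ : Px →+* Bg := Localization.awayMap φ.toRingHom x
      let _ : Algebra Px Bg := ψ₀.toAlgebra
      have : IsScalarTower P Px Bg := IsScalarTower.of_algebraMap_eq fun p => by
        show algebraMap B Bg (φ p) = ψ₀ (algebraMap P Px p)
        exact (IsLocalization.map_eq _ p).symm
      have : IsLocalization (Algebra.algebraMapSubmonoid B (Submonoid.powers x)) Bg := by
        rw [Algebra.algebraMapSubmonoid_powers]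
        exact (inferInstance : IsLocalization.Away g Bg)
      have hpo : Algebra.IsPushout P Px B Bg :=
        (Algebra.isPushout_of_isLocalization (Submonoid.powers x) Px B Bg).symm
      have h1 := torUp_mvPolynomial n A (d g) Bg (hd g (htt hg))
      have h2 := hasTorAmp_baseChange Px Bg h1
      have h3 := hasTorAmp_congr (IsLocalization.moduleLid (Submonoid.powers x) Px Bg) h2
      refine hasTorAmp_congr (Algebra.IsPushout.equiv P Px B Bg).symm.toLinearEquiv (TorAmp.mono h3 ?_ le_rfl)
      have := Finset.le_sup (f := d) hg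
      omega
    · have hzero : ∀ z : Px ⊗[P] B, z = 0 := fun z => by
        induction z with
        | zero => rfl
        | add u v hu hv => rw [hu, hv, add_zero]
        | tmul a b =>
          obtain ⟨w, hw⟩ := isUnit_iff_exists_inv.1 (IsLocalization.Away.algebraMap_isUnit (S := Px) x)
          calc a ⊗ₜ[P] b = (algebraMap P Px x * (a * w)) ⊗ₜ[P] b := by
                rw [mul_left_comm, hw, mul_one]
            _ = (a * w) ⊗ₜ[P] (x • b) := by rw [← Algebra.smul_def, smul_tmul]
            _ = 0 := by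
                rw [Algebra.smul_def, show algebraMap P B x = 0 from RingHom.mem_ker.1 hx, zero_mul, tmul_zero]
      have : Subsingleton (Px ⊗[P] B) := ⟨fun a b => (hzero a).trans (hzero b).symm⟩
      exact TorAmp.mono (torAmp_mD_of_flat (ModuleCat.of Px (Px ⊗[P] B))) (by omega) le_rfl
  refine ⟨perf_iff.2 ⟨pc_iff.2 fun m => fpk_baseChange m B ((pc_iff.1 hpcm) m),
    (hasFiniteTorDim_iff _).2 ⟨D, hamp⟩⟩, hamp⟩

end Groth.PCohHom
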