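import Groth.Agent.PCohHom.Hom
import Mathlib.RingTheory.AdjoinRoot
import Mathlib.RingTheory.Finiteness.ModuleFinitePresentation

/-!
# Finite pseudo-coherent ring maps
-/

set_option autoImplicit false

universe u

open CategoryTheory Polynomial

attribute [local instance] HasDerivedCategory.standard

namespace Groth.PCohHom

variable {A B : Type u} [CommRing A] [CommRing B] [Algebra A B]

/-- Finitely many integral elements lie in the image of a finite free algebra. -/
theorem exists_finite_free_algebra : ∀ l : List B, (∀ b ∈ l, IsIntegral A b) →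
    ∃ (E : Type u) (_ : CommRing E) (_ : Algebra A E) (ψ : E →ₐ[A] B),
      Module.Free A E ∧ Module.Finite A E ∧ ∀ b ∈ l, b ∈ ψ.range := by
  intro l
  induction l with
  | nil => exact fun _ => ⟨A, inferInstance, inferInstance, Algebra.ofId A B, inferInstance, inferInstance, by simp⟩
  | cons b l ih =>
    intro hl
    obtain ⟨E, _, _, ψ, _, _, hψ⟩ := ih fun c hc => hl c (List.mem_cons_of_mem _ hc)
    obtain ⟨p, hp, hpb⟩ := hl b (List.mem_cons_self ..)
    let q := p.map (algebraMap A E)
    have hq : q.Monic := hp.map _
    have hroot : q.eval₂ (ψ : E →ₐ[A] B) b = 0 := by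
      show (p.map (algebraMap A E)).eval₂ ψ.toRingHom b = 0
      rw [Polynomial.eval₂_map, AlgHom.toRingHom_eq_coe, ψ.comp_algebraMap]
      exact hpb
    have : Module.Free E (AdjoinRoot q) := Module.Free.of_basis (AdjoinRoot.powerBasis' hq).basis
    have : Module.Finite E (AdjoinRoot q) := Module.Finite.of_basis (AdjoinRoot.powerBasis' hq).basis
    refine ⟨AdjoinRoot q, inferInstance, inferInstance, AdjoinRoot.liftAlgHom q ψ b hroot,
      Module.Free.trans (R := A) (S := E) (M := AdjoinRoot q), Module.Finite.trans E (AdjoinRoot q), fun c hc => ?_⟩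
    rcases List.mem_cons.1 hc with rfl | hc
    · exact ⟨AdjoinRoot.root q, AdjoinRoot.liftAlgHom_root q ψ c hroot⟩
    · obtain ⟨e, he⟩ := hψ c hc
      exact ⟨AdjoinRoot.of q e, (AdjoinRoot.lift_of hroot).trans he⟩

/-- A finite map is pseudo-coherent iff the module is. -/
theorem pcHom_iff_of_finite [Module.Finite A B] :
    MoreMor.IsPseudoCoherentHom A B ↔ DRing.IsPseudoCoherentModule' A B := by
  obtain ⟨s, hs⟩ := Module.Finite.fg_top (R := A) (M := B)
  obtain ⟨E, _, _, ψ, _, _, hψ⟩ := exists_finite_free_algebra s.toList fun b _ => IsIntegral.of_finite A b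
  have hs' : Function.Surjective ψ := fun b => by
    have hle : Submodule.span A (s : Set B) ≤ ψ.range.toSubmodule :=
      Submodule.span_le.2 fun c hc => hψ c (Finset.mem_toList.2 hc)
    exact hle (hs ▸ Submodule.mem_top)
  have : Module.FinitePresentation A E := Module.finitePresentation_of_projective A E
  rw [pcHom_iff_of_surjective (pcHom_of_flat_finitePresentation A E) ψ hs']
  let _ := ψ.toRingHom.toAlgebra
  have : IsScalarTower A E B := IsScalarTower.of_algebraMap_eq fun a => (ψ.commutes a).symm
  exact pc_iff_restrictScalars (pc_iff.2 fun n => fpk_of_free n) B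

end Groth.PCohHom
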