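import Mathlib.AlgebraicGeometry.Morphisms.Descent
import Mathlib.AlgebraicGeometry.Morphisms.FlatDescent
import Mathlib.RingTheory.RingHom.FaithfullyFlat

/-!
# fpqc descent for morphism properties with a codescending ring map property
-/

set_option autoImplicit false

universe u

open CategoryTheory CategoryTheory.Limits AlgebraicGeometry TensorProduct MorphismProperty

namespace Groth.PCohHom

set_option backward.isDefEq.respectTransparency false in
set_option backward.isDefEq.respectTransparency.types false in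
theorem descends_of_codescendsAlong (P : MorphismProperty Scheme.{u}) {Q : ∀ {R S : Type u} [CommRing R] [CommRing S], (R →+* S) → Prop} [HasRingHomProperty P Q] (hcod : RingHom.CodescendsAlong Q RingHom.FaithfullyFlat) : P.DescendsAlong (@Surjective ⊓ @Flat ⊓ @QuasiCompact) := by
  apply IsZariskiLocalAtTarget.descendsAlong
  intro R X Y f g hf h
  obtain ⟨⟨hsurj, hflat⟩, hqc⟩ := hf
  have : CompactSpace X := by simpa [← quasiCompact_iff_compactSpace f] using hqc
  let 𝒰 := X.affineCover.finiteSubcover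
  let W := ∐ fun i : 𝒰.I₀ ↦ 𝒰.X i
  let p : W ⟶ X := Sigma.desc fun i ↦ 𝒰.f i
  have hp : Surjective p := ⟨fun x ↦ by
    obtain ⟨i, x, rfl⟩ := X.affineCover.finiteSubcover.exists_eq x
    use Sigma.ι X.affineCover.finiteSubcover.X i x
    rw [← Scheme.Hom.comp_apply, Sigma.ι_desc]⟩
  have hpflat : Flat p := by
    rw [IsZariskiLocalAtSource.iff_of_openCover (P := @Flat) (sigmaOpenCover _)]
    intro i
    have : IsOpenImmersion (Sigma.ι (fun i : 𝒰.I₀ ↦ 𝒰.X i) i ≫ p) := by
      rw [Sigma.ι_desc]; infer_instance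
    exact (inferInstance : Flat (Sigma.ι (fun i : 𝒰.I₀ ↦ 𝒰.X i) i ≫ p))
  have hW : P (pullback.fst p (pullback.fst f g)) := by
    rw [IsZariskiLocalAtTarget.iff_of_openCover (P := P) (sigmaOpenCover _)]
    intro i
    have : IsOpenImmersion (Sigma.ι (fun i : 𝒰.I₀ ↦ 𝒰.X i) i ≫ p) := by
      rw [Sigma.ι_desc]; infer_instance
    have hpb := ((IsPullback.of_hasPullback (pullback.fst p (pullback.fst f g))
      (Sigma.ι (fun i : 𝒰.I₀ ↦ 𝒰.X i) i)).flip.paste_vert
      (IsPullback.of_hasPullback p (pullback.fst f g))).flip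
    exact IsZariskiLocalAtTarget.of_isPullback hpb h
  have hW' : P (pullback.fst (p ≫ f) g) := by
    rw [← pullbackRightPullbackFstIso_inv_fst f g p, P.cancel_left_of_respectsIso]
    exact hW
  obtain ⟨φ, hφ⟩ := Spec.map_surjective (W.isoSpec.inv ≫ p ≫ f)
  have hW'' : P (pullback.fst (Spec.map φ) g) := by
    rw [hφ, ← pullbackRightPullbackFstIso_inv_fst (p ≫ f) g W.isoSpec.inv,
      P.cancel_left_of_respectsIso]
    exact IsZariskiLocalAtTarget.of_isPullback (IsPullback.of_hasPullback W.isoSpec.inv _).flip hW'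
  have hff : φ.hom.FaithfullyFlat := by
    rw [← flat_and_surjective_SpecMap_iff, hφ]
    exact ⟨inferInstance, inferInstance⟩
  have hY : ∀ (S : CommRingCat.{u}) (g : Spec S ⟶ Spec R), P (pullback.fst (Spec.map φ) g) → P g :=
    fun S g hg => of_pullback_fst_Spec_of_codescendsAlong (P := P)
      (Q := fun f ↦ Q f) (Q' := RingHom.FaithfullyFlat) (P' := @Surjective ⊓ @Flat)
      hcod
      (fun {_ _ f} hf => by rwa [← flat_and_surjective_SpecMap_iff, and_comm])
      (fun {_ _ _} => HasRingHomProperty.Spec_iff (P := P))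
      (show (@Surjective ⊓ @Flat : MorphismProperty Scheme.{u}) (Spec.map φ) from
        by obtain ⟨h1, h2⟩ := (flat_and_surjective_SpecMap_iff φ).mpr hff; exact ⟨h2, h1⟩) hg
  rw [IsZariskiLocalAtSource.iff_of_openCover (P := P) Y.affineCover]
  intro i
  have heq : pullback.fst (Spec.map φ) (Y.affineCover.f i ≫ g) =
      pullback.map _ _ _ _ (𝟙 _) (Y.affineCover.f i) (𝟙 _) (by simp) (by simp) ≫
        pullback.fst (Spec.map φ) g := (pullback.lift_fst _ _ _).symm
  exact hY _ _ (heq ▸ AlgebraicGeometry.IsZariskiLocalAtSource.comp hW'' _)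

end Groth.PCohHom
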