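import Groth.Agent.PCohHom.Mor
import Groth.Agent.PCohHom.Descend
import Mathlib.AlgebraicGeometry.Morphisms.Affine
import Mathlib.AlgebraicGeometry.Morphisms.Flat

/-!
# Flat base change and cancellation for pseudo-coherent morphisms
-/

set_option autoImplicit false

universe u

open CategoryTheory CategoryTheory.Limits AlgebraicGeometry TopologicalSpace

attribute [local instance] HasDerivedCategory.standard

namespace Groth.PCohHom

theorem iff_exists_appLE_pc {X Y : Scheme.{u}} (f : X ⟶ Y) :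
    MorPC f ↔ ∀ (x : X), ∃ (U : Y.affineOpens) (V : X.affineOpens) (_ : x ∈ V.1) (e : V.1 ≤ f ⁻¹ᵁ U.1),
      RingPC (f.appLE U V e).hom :=
  HasRingHomProperty.iff_exists_appLE (f := f)
    (ringPC_stableUnderComposition.stableUnderCompositionWithLocalizationAway
      ringPC_holdsForLocalizationAway).left

set_option backward.isDefEq.respectTransparency false in
set_option backward.isDefEq.respectTransparency.types false in
theorem ringPC_of_isPushout {R S R' S' : CommRingCat.{u}} {a : R ⟶ R'} {b : R ⟶ S} {c : R' ⟶ S'}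
    {d : S ⟶ S'} (h : IsPushout a b c d) (ha : a.hom.Flat) (hb : RingPC b.hom) : RingPC c.hom := by
  let _ := a.hom.toAlgebra
  let _ := b.hom.toAlgebra
  let _ := c.hom.toAlgebra
  let _ := d.hom.toAlgebra
  let _ := (a ≫ c).hom.toAlgebra
  have : IsScalarTower R R' S' := .of_algebraMap_eq fun _ => rfl
  have : IsScalarTower R S S' := .of_algebraMap_eq fun x =>
    RingHom.congr_fun (congrArg CommRingCat.Hom.hom h.w) x
  have : Algebra.IsPushout R R' S S' := CommRingCat.isPushout_iff_isPushout.mp h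
  have : Module.Flat R R' := ha
  exact pcHom_baseChange (A := R) (B := S) hb

set_option backward.isDefEq.respectTransparency false in
set_option backward.isDefEq.respectTransparency.types false in
/-- Flat base change. -/
theorem morPC_baseChange {X S X' S' : Scheme.{u}} {f : X ⟶ S} {f' : X' ⟶ S'} {g' : X' ⟶ X} {g : S' ⟶ S}
    [Flat g] (hc : IsPullback g' f' f g) (hf : MorPC f) : MorPC f' := by
  rw [iff_exists_appLE_pc]
  intro x
  obtain ⟨V, hV, hxV, -⟩ := exists_isAffineOpen_mem_and_subset (show f (g' x) ∈ (⊤ : S.Opens) from trivial)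
  have hx : g (f' x) ∈ V := by
    rw [← Scheme.Hom.comp_apply, ← hc.w, Scheme.Hom.comp_apply]
    exact hxV
  obtain ⟨V', hV', hxV', hV'le⟩ := exists_isAffineOpen_mem_and_subset (show f' x ∈ g ⁻¹ᵁ V from hx)
  obtain ⟨U, hU, hxU, hUle⟩ := exists_isAffineOpen_mem_and_subset (show g' x ∈ f ⁻¹ᵁ V from hxV)
  let U' := g' ⁻¹ᵁ U ⊓ f' ⁻¹ᵁ V'
  have H := Scheme.Hom.isPullback_resLE hc (UT := V') (UX := U) hV'le hUle (UY := U') rfl
  have : IsAffine (V : Scheme.{u}) := hV
  have : IsAffine (U : Scheme.{u}) := hU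
  have : IsAffine (V' : Scheme.{u}) := hV'
  have hU' : IsAffineOpen U' := (IsAffine.of_isPullback H : IsAffine (U' : Scheme.{u}))
  have hp := isPushout_appTop_of_isPullback H
  have hfl : (g.resLE V V' hV'le).appTop.hom.Flat :=
    HasRingHomProperty.appTop @Flat (g.resLE V V' hV'le) inferInstance
  have hbase : RingPC (f.resLE V U hUle).appTop.hom := by
    have := RingHom.toMorphismProperty_respectsIso_iff.mp ringPC_propertyIsLocal.respectsIso.{u}
    refine ((RingHom.toMorphismProperty @RingPC).arrow_mk_iso_iff (arrowResLEAppIso f V U hUle)).mpr ?_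
    exact HasRingHomProperty.appLE (P := MorPC) f hf ⟨V, hV⟩ ⟨U, hU⟩ hUle
  have hres : RingPC (f'.resLE V' U' inf_le_right).appTop.hom := ringPC_of_isPushout hp.flip hfl hbase
  refine ⟨⟨V', hV'⟩, ⟨U', hU'⟩, ⟨hxU, hxV'⟩, inf_le_right, ?_⟩
  have := RingHom.toMorphismProperty_respectsIso_iff.mp ringPC_propertyIsLocal.respectsIso.{u}
  exact ((RingHom.toMorphismProperty @RingPC).arrow_mk_iso_iff
    (arrowResLEAppIso f' V' U' inf_le_right)).mp hres

theorem morPC_comp {X Y Z : Scheme.{u}} {f : X ⟶ Y} {g : Y ⟶ Z} (hf : MorPC f) (hg : MorPC g) :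
    MorPC (f ≫ g) :=
  (HasRingHomProperty.stableUnderComposition (P := MorPC) ringPC_stableUnderComposition).comp_mem f g hf hg

/-- Cancellation. -/
theorem morPC_cancel {X Y S : Scheme.{u}} {f : X ⟶ Y} {g : Y ⟶ S} (hX : MorPC (f ≫ g)) (hY : MorPC g) :
    MorPC f := by
  rw [iff_exists_appLE_pc]
  intro x
  obtain ⟨V, hV, hxV, -⟩ := exists_isAffineOpen_mem_and_subset (show g (f x) ∈ (⊤ : S.Opens) from trivial)
  obtain ⟨W, hW, hxW, hWle⟩ := exists_isAffineOpen_mem_and_subset (show f x ∈ g ⁻¹ᵁ V from hxV)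
  obtain ⟨U, hU, hxU, hUle⟩ := exists_isAffineOpen_mem_and_subset (show x ∈ f ⁻¹ᵁ W from hxW)
  refine ⟨⟨W, hW⟩, ⟨U, hU⟩, hxU, hUle, ?_⟩
  have h1 := HasRingHomProperty.appLE (P := MorPC) g hY ⟨V, hV⟩ ⟨W, hW⟩ hWle
  have h2 := HasRingHomProperty.appLE (P := MorPC) (f ≫ g) hX ⟨V, hV⟩ ⟨U, hU⟩
    (hUle.trans (f.preimage_mono hWle))
  rw [← Scheme.Hom.appLE_comp_appLE (f := f) (g := g) V W U hWle hUle] at h2
  let _ := (g.appLE V W hWle).hom.toAlgebra
  let _ := (f.appLE W U hUle).hom.toAlgebra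
  let _ := (g.appLE V W hWle ≫ f.appLE W U hUle).hom.toAlgebra
  have : IsScalarTower Γ(S, V) Γ(Y, W) Γ(X, U) := .of_algebraMap_eq fun _ => rfl
  exact pcHom_cancel (A := Γ(S, V)) (B := Γ(Y, W)) (C := Γ(X, U)) h1 h2

end Groth.PCohHom

namespace Groth.PCohHom

theorem ringPC_codescendsAlong : RingHom.CodescendsAlong @RingPC @RingHom.FaithfullyFlat := by
  refine .mk _ ringPC_propertyIsLocal.respectsIso fun R S T _ _ _ _ _ h h' => ?_
  rw [RingHom.faithfullyFlat_algebraMap_iff] at h
  rw [ringPC_algebraMap] at h' ⊢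
  exact pcHom_of_baseChange (A' := S) h'

theorem morPC_descends : MorPC.{u}.DescendsAlong (@Surjective ⊓ @Flat ⊓ @QuasiCompact) :=
  descends_of_codescendsAlong MorPC ringPC_codescendsAlong

end Groth.PCohHom
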