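import Groth.Agent.PCohHom.MorPerf
import Mathlib.RingTheory.Localization.Free
import Mathlib.RingTheory.LocalRing.Module

/-!
# Perfect ring maps and tor dimension of the local rings
-/

set_option autoImplicit false

universe u

open CategoryTheory TensorProduct AlgebraicGeometry

attribute [local instance] HasDerivedCategory.standard

namespace Groth.PCohHom

open Groth.DAlg Groth.KoszulLCI

section Tensor

variable {R P : Type u} [CommRing R] [CommRing P] [Algebra R P]

/-- The tensor product of a flat `P`-module and an `R`-flat `P`-module is `R`-flat. -/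
theorem flat_tensor (N : Type u) [AddCommGroup N] [Module P N] [Module R N] [IsScalarTower R P N] [Module.Flat P N]
    (M : Type u) [AddCommGroup M] [Module P M] [Module R M] [IsScalarTower R P M] [Module.Flat R M] :
    Module.Flat R (N ⊗[P] M) := by
  refine Module.Flat.iff_lTensor_preserves_injective_linearMap.2 fun {L L'} _ _ _ _ f hf => ?_
  let g : M ⊗[R] L →ₗ[P] M ⊗[R] L' := TensorProduct.AlgebraTensorModule.lTensor P M f
  have hg : Function.Injective g := Module.Flat.lTensor_preserves_injective_linearMap f hf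
  have hN := Module.Flat.lTensor_preserves_injective_linearMap (M := N) g hg
  let e := TensorProduct.AlgebraTensorModule.assoc R P P N M L
  let e' := TensorProduct.AlgebraTensorModule.assoc R P P N M L'
  have hc : ∀ z, g.lTensor N (e z) = e' (f.lTensor (N ⊗[P] M) z) := fun z => by
    induction z with
    | zero => simp
    | add a b ha hb => simp only [map_add, ha, hb]
    | tmul a l =>
      induction a with
      | zero => simp
      | add a b ha hb => simp only [add_tmul, map_add, ha, hb]
      | tmul n m => simp [e, e', g]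
  intro a b hab
  exact e.injective (hN (by rw [hc, hc, hab]))

/-- Syzygies over a subring. -/
theorem torAmp_succ_iff_restrict {F M K : Type u} [AddCommGroup F] [Module P F] [Module R F] [IsScalarTower R P F]
    [AddCommGroup M] [Module P M] [Module R M] [IsScalarTower R P M]
    [AddCommGroup K] [Module P K] [Module R K] [IsScalarTower R P K] [Module.Flat R F]
    (i : K →ₗ[P] F) (π : F →ₗ[P] M) (hi : Function.Injective i) (he : Function.Exact i π)
    (hπ : Function.Surjective π) (d : ℕ) :
    DRing.HasTorAmplitudeIn R (-((d + 1 : ℕ) : ℤ)) 0 (Dual.inD R M) ↔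
      DRing.HasTorAmplitudeIn R (-(d : ℤ)) 0 (Dual.inD R K) :=
  hasTorAmp_succ_iff (i := i.restrictScalars R) (π := π.restrictScalars R) hi he hπ d

/-- Syzygies of a tensor product with a flat module. -/
theorem torAmp_tensor_step (N : Type u) [AddCommGroup N] [Module P N] [Module R N] [IsScalarTower R P N]
    [Module.Flat P N] {F M K : Type u} [AddCommGroup F] [Module P F] [AddCommGroup M] [Module P M]
    [AddCommGroup K] [Module P K] (i : K →ₗ[P] F) (π : F →ₗ[P] M) (hi : Function.Injective i)
    (he : Function.Exact i π) (hπ : Function.Surjective π) [hF : Module.Flat R (N ⊗[P] F)] (d : ℕ)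
    (h : DRing.HasTorAmplitudeIn R (-(d : ℤ)) 0 (Dual.inD R (N ⊗[P] K))) :
    DRing.HasTorAmplitudeIn R (-((d + 1 : ℕ) : ℤ)) 0 (Dual.inD R (N ⊗[P] M)) :=
  (torAmp_succ_iff_restrict (R := R) (i.lTensor N) (π.lTensor N)
    (Module.Flat.lTensor_preserves_injective_linearMap i hi) (lTensor_exact N he hπ)
    (LinearMap.lTensor_surjective N hπ) d).2 h

/-- The inductive step. -/
theorem torAmp_tensor_succ [Module.Flat R P] (N : Type u) [AddCommGroup N] [Module P N] [Module R N]
    [IsScalarTower R P N] [Module.Flat P N] (d : ℕ) {F M : Type u} [AddCommGroup F] [Module P F] [Module R F]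
    [IsScalarTower R P F] [Module.Flat P F] [AddCommGroup M] [Module P M] [Module R M] [IsScalarTower R P M]
    (π : F →ₗ[P] M) (hπ : Function.Surjective π)
    (ih : DRing.HasTorAmplitudeIn R (-(d : ℤ)) 0 (Dual.inD R (LinearMap.ker π)) →
      DRing.HasTorAmplitudeIn R (-(d : ℤ)) 0 (Dual.inD R (N ⊗[P] LinearMap.ker π)))
    (h : DRing.HasTorAmplitudeIn R (-((d + 1 : ℕ) : ℤ)) 0 (Dual.inD R M)) :
    DRing.HasTorAmplitudeIn R (-((d + 1 : ℕ) : ℤ)) 0 (Dual.inD R (N ⊗[P] M)) := by
  have hF : Module.Flat R F := Module.Flat.trans R P F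
  have : Module.Flat R (N ⊗[P] F) := flat_tensor (R := R) N F
  exact torAmp_tensor_step (R := R) N (LinearMap.ker π).subtype π Subtype.val_injective π.exact_subtype_ker_map hπ d
    (ih ((torAmp_succ_iff_restrict (R := R) (LinearMap.ker π).subtype π Subtype.val_injective
      π.exact_subtype_ker_map hπ d).1 h))

/-- Tensoring with a flat module over a flat algebra does not increase tor amplitude. -/
theorem torAmp_tensor_flat [Module.Flat R P] (N : Type u) [AddCommGroup N] [Module P N] [Module R N]
    [IsScalarTower R P N] [Module.Flat P N] :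
    ∀ (d : ℕ) (M : Type u) [AddCommGroup M] [Module P M] [Module R M] [IsScalarTower R P M],
      DRing.HasTorAmplitudeIn R (-(d : ℤ)) 0 (Dual.inD R M) →
      DRing.HasTorAmplitudeIn R (-(d : ℤ)) 0 (Dual.inD R (N ⊗[P] M)) := by
  intro d
  induction d with
  | zero =>
    intro M _ _ _ _ h
    have : Module.Flat R M := flat_of_torAmp_zero (M := ModuleCat.of R M) (TorAmp.mono h (by simp) le_rfl)
    have := flat_tensor (R := R) (P := P) N M
    exact TorAmp.mono (torAmp_mD_of_flat (ModuleCat.of R (N ⊗[P] M))) (by simp) le_rfl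
  | succ d ih =>
    intro M _ _ _ _ h
    obtain ⟨π, hπ⟩ : ∃ π : (M →₀ P) →ₗ[P] M, Function.Surjective π :=
      ⟨Finsupp.linearCombination P (id : M → M), fun x => ⟨Finsupp.single x 1, by simp⟩⟩
    exact torAmp_tensor_succ (R := R) N d π hπ (fun h' => ih _ h') h

end Tensor

section Local

variable {P B : Type u} [CommRing P] [CommRing B] [Algebra P B]

/-- Localisation of a quotient as a tensor product. -/
noncomputable def tensorLocEquiv (hsurj : Function.Surjective (algebraMap P B)) (q : Ideal B) [q.IsPrime]
    (Bq : Type u) [CommRing Bq] [Algebra B Bq] [IsLocalization.AtPrime Bq q] [Algebra P Bq] [IsScalarTower P B Bq]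
    (Pq : Type u) [CommRing Pq] [Algebra P Pq] [IsLocalization.AtPrime Pq (q.comap (algebraMap P B))] :
    Pq ⊗[P] B ≃ₗ[P] Bq :=
  haveI : IsLocalization (Algebra.algebraMapSubmonoid B (q.comap (algebraMap P B)).primeCompl) Bq := by
    have : Algebra.algebraMapSubmonoid B (q.comap (algebraMap P B)).primeCompl = q.primeCompl := by
      ext b
      constructor
      · rintro ⟨x, hx, rfl⟩
        exact hx
      · intro hb
        obtain ⟨x, rfl⟩ := hsurj b
        exact ⟨x, hb, rfl⟩
    rw [this]
    infer_instance
  haveI : IsLocalizedModule (q.comap (algebraMap P B)).primeCompl (IsScalarTower.toAlgHom P B Bq).toLinearMap :=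
    isLocalizedModule_iff_isLocalization.2 this
  IsLocalizedModule.linearEquiv (q.comap (algebraMap P B)).primeCompl (TensorProduct.mk P Pq B 1)
    (IsScalarTower.toAlgHom P B Bq).toLinearMap

theorem torAmp_away_of_atPrime_zero (M : Type u) [AddCommGroup M] [Module P M] [Module.FinitePresentation P M]
    (q : Ideal P) [q.IsPrime] [Module.Flat (Localization.AtPrime q) (Localization.AtPrime q ⊗[P] M)] :
    ∃ x ∉ q, Module.Flat (Localization.Away x) (Localization.Away x ⊗[P] M) := by
  have : Module.Free (Localization.AtPrime q) (Localization.AtPrime q ⊗[P] M) := Module.free_of_flat_of_isLocalRing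
  obtain ⟨x, hx, hfree, -⟩ := Module.FinitePresentation.exists_free_localizedModule_powers q.primeCompl
    (TensorProduct.mk P (Localization.AtPrime q) M 1) (Localization.AtPrime q)
  exact ⟨x, hx, Module.Flat.of_linearEquiv (LocalizedModule.equivTensorProduct (Submonoid.powers x) M).symm⟩

/-- Tor amplitude of a pseudo-coherent module spreads out from a prime. -/
theorem torAmp_away_of_atPrime :
    ∀ (d : ℕ) (M : Type u) [AddCommGroup M] [Module P M], DRing.IsPseudoCoherentModule' P M →
      ∀ (q : Ideal P) [q.IsPrime],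
      DRing.HasTorAmplitudeIn (Localization.AtPrime q) (-(d : ℤ)) 0
        (Dual.inD (Localization.AtPrime q) (Localization.AtPrime q ⊗[P] M)) →
      ∃ x ∉ q, DRing.HasTorAmplitudeIn (Localization.Away x) (-(d : ℤ)) 0
        (Dual.inD (Localization.Away x) (Localization.Away x ⊗[P] M)) := by
  intro d
  induction d with
  | zero =>
    intro M _ _ hpc q _ h
    have : Module.FinitePresentation P M := (pcn_neg_one_mD_iff (ModuleCat.of P M)).1 ((pc_iff.1 hpc) 1)
    have : Module.Flat (Localization.AtPrime q) (Localization.AtPrime q ⊗[P] M) :=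
      flat_of_torAmp_zero (M := ModuleCat.of (Localization.AtPrime q) (Localization.AtPrime q ⊗[P] M))
        (TorAmp.mono h (by simp) le_rfl)
    obtain ⟨x, hx, hflat⟩ := torAmp_away_of_atPrime_zero M q
    exact ⟨x, hx, TorAmp.mono (torAmp_mD_of_flat (ModuleCat.of (Localization.Away x) (Localization.Away x ⊗[P] M)))
      (by simp) le_rfl⟩
  | succ d ih =>
    intro M _ _ hpc q _ h
    have := ((pc_iff.1 hpc) 0).finite
    obtain ⟨r, π, hπ⟩ := Module.Finite.exists_fin' P M
    let K := LinearMap.ker π
    have hK : DRing.IsPseudoCoherentModule' P K := pc_iff.2 fun n =>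
      fpk_ker (i := K.subtype) (π := π) Subtype.val_injective π.exact_subtype_ker_map hπ (fpk_of_free n)
        ((pc_iff.1 hpc) (n + 1))
    have hkey : ∀ (L : Type u) [CommRing L] [Algebra P L] [Module.Flat P L],
        DRing.HasTorAmplitudeIn L (-((d + 1 : ℕ) : ℤ)) 0 (Dual.inD L (L ⊗[P] M)) ↔
        DRing.HasTorAmplitudeIn L (-(d : ℤ)) 0 (Dual.inD L (L ⊗[P] K)) := fun L _ _ _ =>
      hasTorAmp_succ_iff (i := K.subtype.baseChange L) (π := π.baseChange L)
        (Module.Flat.lTensor_preserves_injective_linearMap K.subtype Subtype.val_injective)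
        (lTensor_exact L π.exact_subtype_ker_map hπ) (LinearMap.lTensor_surjective L hπ) d
    obtain ⟨x, hx, hx'⟩ := ih K hK q ((hkey _).1 h)
    have : Module.Flat P (Localization.Away x) := IsLocalization.flat _ (Submonoid.powers x)
    exact ⟨x, hx, (hkey _).2 hx'⟩

end Local

variable {A B : Type u} [CommRing A] [CommRing B] [Algebra A B]

/-- The local rings of an algebra of finite tor dimension have finite tor dimension. -/
theorem finiteTorDim_localization (h : DRing.HasFiniteTorDim A B) (p : Ideal A) [p.IsPrime] (q : Ideal B) [q.IsPrime]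
    (Ap Bq : Type u) [CommRing Ap] [CommRing Bq] [Algebra A Ap] [IsLocalization.AtPrime Ap p]
    [Algebra B Bq] [IsLocalization.AtPrime Bq q] [Algebra A Bq] [IsScalarTower A B Bq] [Algebra Ap Bq]
    [IsScalarTower A Ap Bq] : DRing.HasFiniteTorDim Ap Bq := by
  obtain ⟨d, hd⟩ := (hasFiniteTorDim_iff B).1 h
  let P := MvPolynomial B A
  let φ : P →ₐ[A] B := MvPolynomial.aeval id
  have hφ : Function.Surjective φ := fun b => ⟨MvPolynomial.X b, MvPolynomial.aeval_X _ _⟩
  let _ := φ.toRingHom.toAlgebra
  have : IsScalarTower A P B := IsScalarTower.of_algebraMap_eq fun a => (φ.commutes a).symm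
  let _ : Algebra P Bq := ((algebraMap B Bq).comp (algebraMap P B)).toAlgebra
  have : IsScalarTower P B Bq := IsScalarTower.of_algebraMap_eq fun _ => rfl
  have : IsScalarTower A P Bq := IsScalarTower.of_algebraMap_eq fun a => by
    show algebraMap A Bq a = algebraMap B Bq (algebraMap P B (algebraMap A P a))
    rw [← IsScalarTower.algebraMap_apply A P B, ← IsScalarTower.algebraMap_apply A B Bq]
  let Pq := Localization.AtPrime (q.comap (algebraMap P B))
  have : Module.Flat P Pq := IsLocalization.flat _ (q.comap (algebraMap P B)).primeCompl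
  have h1 := torAmp_tensor_flat (R := A) (P := P) Pq d B hd
  have h2 := hasTorAmp_congr ((tensorLocEquiv (P := P) hφ q Bq Pq).restrictScalars A) h1
  have : Module.Flat A Ap := IsLocalization.flat _ p.primeCompl
  exact (hasFiniteTorDim_iff Bq).2 ⟨d,
    hasTorAmp_congr (IsLocalization.moduleLid p.primeCompl Ap Bq) (hasTorAmp_baseChange Ap Bq h2)⟩

/-- A pseudo-coherent module of finite tor dimension at all maximal ideals is perfect. -/
theorem perfModule_of_atPrime {P : Type u} [CommRing P] (M : Type u) [AddCommGroup M] [Module P M]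
    (hpc : DRing.IsPseudoCoherentModule' P M)
    (h : ∀ (m : Ideal P) [m.IsPrime], ∃ d : ℕ, DRing.HasTorAmplitudeIn (Localization.AtPrime m) (-(d : ℤ)) 0
      (Dual.inD (Localization.AtPrime m) (Localization.AtPrime m ⊗[P] M))) :
    DRing.IsPerfectModule P M := by
  classical
  let H : Set P := {x | ∃ d : ℕ, DRing.HasTorAmplitudeIn (Localization.Away x) (-(d : ℤ)) 0
    (Dual.inD (Localization.Away x) (Localization.Away x ⊗[P] M))}
  have hH : Ideal.span H = ⊤ := by
    by_contra hne
    obtain ⟨m, hm, hle⟩ := Ideal.exists_le_maximal _ hne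
    obtain ⟨d, hd⟩ := h m
    obtain ⟨x, hx, hxd⟩ := torAmp_away_of_atPrime d M hpc m hd
    exact hx (hle (Ideal.subset_span ⟨d, hxd⟩))
  obtain ⟨H', hHH, hspan⟩ := (Ideal.span_eq_top_iff_finite H).1 hH
  choose! d hd using fun x (hx : x ∈ H) => hx
  refine isPerfectModule_of_span hspan (H'.sup d) M fun x => ?_
  have hx : DRing.HasTorAmplitudeIn (Localization.Away x.1) (-((H'.sup d : ℕ) : ℤ)) 0
      (Dual.inD (Localization.Away x.1) (Localization.Away x.1 ⊗[P] M)) :=
    TorAmp.mono (hd x.1 (hHH x.2)) (by have := Finset.le_sup (f := d) x.2; omega) le_rfl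
  have : Module.Flat P (Localization.Away x.1) := IsLocalization.flat _ (Submonoid.powers x.1)
  exact ⟨perf_iff.2 ⟨pc_iff.2 fun k => fpk_baseChange k M ((pc_iff.1 hpc) k),
    (hasFiniteTorDim_iff _).2 ⟨_, hx⟩⟩, hx⟩

/-- Away from the support of a quotient. -/
theorem torAmp_atPrime_of_not_le {P B : Type u} [CommRing P] [CommRing B] [Algebra P B] (m : Ideal P) [m.IsPrime]
    (hker : ¬ RingHom.ker (algebraMap P B) ≤ m) :
    DRing.HasTorAmplitudeIn (Localization.AtPrime m) 0 0
      (Dual.inD (Localization.AtPrime m) (Localization.AtPrime m ⊗[P] B)) := by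
  obtain ⟨x, hx, hxm⟩ := SetLike.not_le_iff_exists.1 hker
  have hzero : ∀ z : Localization.AtPrime m ⊗[P] B, z = 0 := fun z => by
    induction z with
    | zero => rfl
    | add u v hu hv => rw [hu, hv, add_zero]
    | tmul a b =>
      obtain ⟨w, hw⟩ := isUnit_iff_exists_inv.1
        (IsLocalization.map_units (Localization.AtPrime m) (⟨x, hxm⟩ : m.primeCompl))
      calc a ⊗ₜ[P] b = (algebraMap P (Localization.AtPrime m) x * (a * w)) ⊗ₜ[P] b := by
            rw [mul_left_comm, hw, mul_one]
        _ = (a * w) ⊗ₜ[P] (x • b) := by rw [← Algebra.smul_def, smul_tmul]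
        _ = 0 := by
            rw [Algebra.smul_def, show algebraMap P B x = 0 from RingHom.mem_ker.1 hx, zero_mul, tmul_zero]
  have : Subsingleton (Localization.AtPrime m ⊗[P] B) := ⟨fun a b => (hzero a).trans (hzero b).symm⟩
  have hfree : Module.Free (Localization.AtPrime m) (Localization.AtPrime m ⊗[P] B) :=
    Module.Free.of_subsingleton (R := Localization.AtPrime m) (N := Localization.AtPrime m ⊗[P] B)
  exact @torAmp_mD_of_flat (Localization.AtPrime m) _ (ModuleCat.of (Localization.AtPrime m)
    (Localization.AtPrime m ⊗[P] B)) (@Module.Flat.of_free _ _ _ _ _ hfree)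

/-- The local rings of a quotient of an algebra `P`, read at the primes of `P`. -/
theorem torAmp_atPrime_of_le {P B : Type u} [CommRing P] [CommRing B] [Algebra P B]
    (hφ : Function.Surjective (algebraMap P B)) (m : Ideal P) [m.IsPrime] (q : Ideal B) [q.IsPrime]
    (hq : q.comap (algebraMap P B) = m) {d : ℕ}
    (h : DRing.HasTorAmplitudeIn P (-(d : ℤ)) 0 (Dual.inD P (Localization.AtPrime q))) :
    DRing.HasTorAmplitudeIn (Localization.AtPrime m) (-(d : ℤ)) 0
      (Dual.inD (Localization.AtPrime m) (Localization.AtPrime m ⊗[P] B)) := by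
  subst hq
  let Pq := Localization.AtPrime (q.comap (algebraMap P B))
  have : Module.Flat P Pq := IsLocalization.flat _ (q.comap (algebraMap P B)).primeCompl
  let e := tensorLocEquiv hφ q (Localization.AtPrime q) Pq
  exact hasTorAmp_congr ((e.symm.baseChange P Pq).trans
    (IsLocalization.moduleLid (q.comap (algebraMap P B)).primeCompl Pq (Pq ⊗[P] B)))
    (hasTorAmp_baseChange Pq _ h)

/-- A pseudo-coherent ring map with local rings of finite tor dimension is perfect. -/
theorem perfHom_of_localizations (hpc : MoreMor.IsPseudoCoherentHom A B)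
    (h : ∀ (q : Ideal B) [q.IsPrime], DRing.HasFiniteTorDim A (Localization.AtPrime q)) :
    MoreMor.IsPerfectHom A B := by
  obtain ⟨n, φ, hφ, hpcm⟩ := id hpc
  refine (perfHom_iff φ hφ).2 ?_
  let _ := φ.toRingHom.toAlgebra
  have : IsScalarTower A (MvPolynomial (Fin n) A) B :=
    IsScalarTower.of_algebraMap_eq fun a => (φ.commutes a).symm
  refine perfModule_of_atPrime B hpcm fun m _ => ?_
  by_cases hker : RingHom.ker (algebraMap (MvPolynomial (Fin n) A) B) ≤ m
  · have : (m.map (algebraMap (MvPolynomial (Fin n) A) B)).IsPrime := Ideal.map_isPrime_of_surjective hφ hker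
    obtain ⟨d, hd⟩ := (hasFiniteTorDim_iff _).1 (h (m.map (algebraMap (MvPolynomial (Fin n) A) B)))
    have hq : (m.map (algebraMap (MvPolynomial (Fin n) A) B)).comap (algebraMap (MvPolynomial (Fin n) A) B) = m := by
      rw [Ideal.comap_map_of_surjective' (algebraMap (MvPolynomial (Fin n) A) B) hφ, sup_eq_left]
      exact hker
    exact ⟨_, torAmp_atPrime_of_le hφ m _ hq (torUp_mvPolynomial n A d _ hd)⟩
  · exact ⟨0, TorAmp.mono (torAmp_atPrime_of_not_le m hker) (by simp) le_rfl⟩

/-- Finite tor dimension of a local ring over the localised base gives it over the base. -/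
theorem finiteTorDim_of_localization (p : Ideal A) [p.IsPrime] (q : Ideal B) [q.IsPrime]
    (Ap Bq : Type u) [CommRing Ap] [CommRing Bq] [Algebra A Ap] [IsLocalization.AtPrime Ap p]
    [Algebra B Bq] [IsLocalization.AtPrime Bq q] [Algebra A Bq] [IsScalarTower A B Bq] [Algebra Ap Bq]
    [IsScalarTower A Ap Bq] (h : DRing.HasFiniteTorDim Ap Bq) :
    DRing.HasFiniteTorDim A (Localization.AtPrime q) := by
  obtain ⟨d, hd⟩ := (hasFiniteTorDim_iff Bq).1 h
  have : Module.Flat A Ap := IsLocalization.flat _ p.primeCompl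
  exact (hasFiniteTorDim_iff _).2 ⟨d, hasTorAmp_congr
    ((IsLocalization.algEquiv q.primeCompl Bq (Localization.AtPrime q)).toLinearEquiv.restrictScalars A)
    (hasTorAmp_restrictScalars (P := Ap) d Bq hd)⟩

end Groth.PCohHom
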