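import Groth.Agent.PCohHom.PerfStalk
import Groth.Agent.PCohHom.FiniteMap
import Groth.Agent.PCohHom.MorBaseChange
import Groth.Agent.GitQuot.FppfSource
import Groth.Agent.AlgSpCartier.Descent
import Groth.Agent.S7174
import Groth.Agent.S7198

/-!
# Pseudo-coherence and perfection are fppf local on the source
-/

set_option autoImplicit false

universe u

open CategoryTheory CategoryTheory.Limits TensorProduct AlgebraicGeometry

attribute [local instance] HasDerivedCategory.standard

namespace Groth.PCohHom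

open Groth.DAlg Groth.KoszulLCI

section Retract

variable {R : Type u} [CommRing R]

/-- Direct summands. -/
theorem fpk_of_split : ∀ (n : ℕ) (K F M : Type u) [AddCommGroup K] [Module R K] [AddCommGroup F] [Module R F]
    [AddCommGroup M] [Module R M] (i : K →ₗ[R] F) (π : F →ₗ[R] M) (r : F →ₗ[R] K) (s : M →ₗ[R] F),
    r ∘ₗ i = LinearMap.id → π ∘ₗ s = LinearMap.id → π ∘ₗ i = 0 → i ∘ₗ r + s ∘ₗ π = LinearMap.id →
    FPk R n F → FPk R n M := by
  intro n
  induction n with
  | zero =>
    intro K F M _ _ _ _ _ _ i π r s _ hs _ _ h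
    have := fpk_zero_iff.1 h
    exact fpk_zero_iff.2 (Module.Finite.of_surjective π fun m => ⟨s m, LinearMap.congr_fun hs m⟩)
  | succ n ih =>
    intro K F M _ _ _ _ _ _ i π r s hr hs hpi hsum h
    have hrs : r ∘ₗ s = 0 := by
      ext m
      have h1 := congrArg r (LinearMap.congr_fun hsum (s m))
      simp only [LinearMap.add_apply, LinearMap.comp_apply, map_add, LinearMap.id_coe, id_eq] at h1
      rw [show π (s m) = m from LinearMap.congr_fun hs m,
        show r (i (r (s m))) = r (s m) from LinearMap.congr_fun hr _] at h1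
      simpa using h1
    have hK : FPk R n K := ih M F K s r π i hs hr hrs (by rw [add_comm]; exact hsum) (h.mono n.le_succ)
    refine fpk_coker (i := i) (π := π) (Function.LeftInverse.injective (LinearMap.congr_fun hr)) ?_
      (fun m => ⟨s m, LinearMap.congr_fun hs m⟩) hK h
    intro y
    constructor
    · intro hy
      refine ⟨r y, ?_⟩
      have h1 := LinearMap.congr_fun hsum y
      simpa [hy] using h1
    · rintro ⟨x, rfl⟩
      exact LinearMap.congr_fun hpi x

theorem fpk_retract {M N : Type u} [AddCommGroup M] [Module R M] [AddCommGroup N] [Module R N]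
    (a : M →ₗ[R] N) (b : N →ₗ[R] M) (hab : b ∘ₗ a = LinearMap.id) {n : ℕ} (h : FPk R n N) : FPk R n M := by
  have hb : ∀ m, b (a m) = m := LinearMap.congr_fun hab
  refine fpk_of_split n (LinearMap.ker b) N M (LinearMap.ker b).subtype b
    ((LinearMap.id - a ∘ₗ b).codRestrict (LinearMap.ker b) fun x => by simp [hb]) a ?_ hab ?_ ?_ h
  · ext x
    simp [LinearMap.mem_ker.1 x.2]
  · ext x
    exact x.2
  · ext x
    simp

end Retract

section Ring

variable {A B C : Type u} [CommRing A] [CommRing B] [CommRing C] [Algebra A B] [Algebra B C] [Algebra A C]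
  [IsScalarTower A B C]

/-- A faithfully flat finite projective algebra has a retraction of modules. -/
theorem exists_retraction [Module.FaithfullyFlat B C] [Module.Finite B C] [Module.Projective B C] :
    ∃ s : C →ₗ[B] B, s 1 = 1 := by
  let T : Ideal B := LinearMap.range (LinearMap.applyₗ (R := B) (1 : C) : (C →ₗ[B] B) →ₗ[B] B)
  suffices h : T = ⊤ by
    obtain ⟨s, hs⟩ := (h ▸ Submodule.mem_top : (1 : B) ∈ T)
    exact ⟨s, hs⟩
  by_contra hne
  obtain ⟨m, hm, hle⟩ := Ideal.exists_le_maximal T hne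
  obtain ⟨n, π, hπ⟩ := Module.Finite.exists_fin' B C
  obtain ⟨σ, hσ⟩ := Module.projective_lifting_property π LinearMap.id hπ
  have h1 : (1 : C) ∈ m.map (algebraMap B C) := by
    have h2 : π (σ 1) = (1 : C) := LinearMap.congr_fun hσ 1
    rw [← h2, pi_eq_sum_univ (σ 1), map_sum]
    refine Ideal.sum_mem _ fun i _ => ?_
    rw [map_smul, Algebra.smul_def]
    exact Ideal.mul_mem_right _ _ (Ideal.mem_map_of_mem _ (hle ⟨(LinearMap.proj i).comp σ, rfl⟩))
  have h3 : (1 : B) ∈ (m.map (algebraMap B C)).comap (algebraMap B C) := by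
    rw [Ideal.mem_comap, map_one]; exact h1
  rw [Ideal.comap_map_eq_self_of_faithfullyFlat] at h3
  exact hm.ne_top ((Ideal.eq_top_iff_one m).mpr h3)

/-- Descent along finite locally free covers of the source. -/
theorem pcHom_of_finite_cover [Module.FaithfullyFlat B C] [Module.Finite B C] [Algebra.FinitePresentation B C]
    (h : MoreMor.IsPseudoCoherentHom A C) : MoreMor.IsPseudoCoherentHom A B := by
  have := finiteType_of_pcHom h
  have : Algebra.FiniteType A B := Groth.GitQuot.FppfSource.finiteType_of_fppf A B C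
  obtain ⟨n, φ, hφ⟩ := Algebra.FiniteType.iff_quotient_mvPolynomial''.1 this
  let _ := φ.toRingHom.toAlgebra
  have : IsScalarTower A (MvPolynomial (Fin n) A) B := IsScalarTower.of_algebraMap_eq fun a => (φ.commutes a).symm
  let _ : Algebra (MvPolynomial (Fin n) A) C := ((algebraMap B C).comp φ.toRingHom).toAlgebra
  have : IsScalarTower (MvPolynomial (Fin n) A) B C := IsScalarTower.of_algebraMap_eq fun _ => rfl
  have : IsScalarTower A (MvPolynomial (Fin n) A) C := IsScalarTower.of_algebraMap_eq fun a => by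
    show algebraMap A C a = algebraMap B C (φ (algebraMap A _ a))
    rw [φ.commutes, ← IsScalarTower.algebraMap_apply]
  have : Module.Finite (MvPolynomial (Fin n) A) B :=
    Module.Finite.of_surjective (Algebra.linearMap (MvPolynomial (Fin n) A) B) hφ
  have : Module.Finite (MvPolynomial (Fin n) A) C := Module.Finite.trans B C
  have hid : MoreMor.IsPseudoCoherentHom A A := pcHom_of_flat_finitePresentation A A
  have hP : MoreMor.IsPseudoCoherentHom (MvPolynomial (Fin n) A) C :=
    pcHom_cancel (pcHom_mvPolynomial hid n) h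
  have hC : DRing.IsPseudoCoherentModule' (MvPolynomial (Fin n) A) C := pcHom_iff_of_finite.1 hP
  have : Module.FinitePresentation B C :=
    Module.FinitePresentation.of_finite_of_finitePresentation B C
  have : Module.Projective B C := Module.Flat.projective_of_finitePresentation
  obtain ⟨s, hs⟩ := exists_retraction (B := B) (C := C)
  refine ⟨n, φ, hφ, pc_iff.2 fun k => fpk_retract ((Algebra.linearMap B C).restrictScalars (MvPolynomial (Fin n) A))
    (s.restrictScalars (MvPolynomial (Fin n) A)) ?_ ((pc_iff.1 hC) k)⟩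
  ext b
  show s (algebraMap B C b) = b
  rw [Algebra.algebraMap_eq_smul_one, map_smul, hs, smul_eq_mul, mul_one]

end Ring

section TorDim

variable {A : Type u} [CommRing A]

open Groth.Calg7 in
/-- Tor dimension passes to modules with fewer non-injective tensored maps. -/
theorem torAmp_of_lTensor_injective (M M' : Type u) [AddCommGroup M] [Module A M] [AddCommGroup M'] [Module A M']
    (h : ∀ (L F : Type u) [AddCommGroup L] [Module A L] [AddCommGroup F] [Module A F] (g : L →ₗ[A] F),
      Function.Injective (g.lTensor M') → Function.Injective (g.lTensor M))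
    {d : ℕ} (hd : DRing.HasTorAmplitudeIn A (-(d : ℤ)) 0 (Dual.inD A M')) :
    DRing.HasTorAmplitudeIn A (-(d : ℤ)) 0 (Dual.inD A M) := by
  have hT := (isZero_tor_iff_torAmp (ModuleCat.of A M') d).2 hd
  have key : ∀ (p : ℕ) (N : ModuleCat.{u} A), IsZero (Tor.T (p + 1) (ModuleCat.of A M') N) →
      IsZero (Tor.T (p + 1) (ModuleCat.of A M) N) := by
    intro p
    induction p with
    | zero =>
      intro N hN
      have hS := Tor.presentation_shortExact N
      refine (Tor.isZero_one_iff _ hS (Tor.isZero_of_flat_right _ _ 0)).2 (h _ _ _ ?_)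
      exact (Tor.isZero_one_iff _ hS (Tor.isZero_of_flat_right _ _ 0)).1 hN
    | succ p ih =>
      intro N hN
      have hS := Tor.presentation_shortExact N
      have h1 := Tor.isZero_R₁ (ModuleCat.of A M') hS (p + 1) hN (Tor.isZero_of_flat_right _ _ p)
      exact Tor.isZero_R₃ (ModuleCat.of A M) hS (p + 1) (Tor.isZero_of_flat_right _ _ (p + 1)) (ih _ h1)
  refine (isZero_tor_iff_torAmp (ModuleCat.of A M) d).1 fun N p hp => ?_
  obtain ⟨q, rfl⟩ := Nat.exists_eq_add_of_le' (show 1 ≤ p by omega)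
  exact key q N (hT N (q + 1) hp)

variable {B : Type u} [CommRing B] [Algebra A B]

/-- Tor dimension over the base descends along faithfully flat algebras. -/
theorem finiteTorDim_of_faithfullyFlat (C : Type u) [CommRing C] [Algebra B C] [Algebra A C] [IsScalarTower A B C]
    [Module.FaithfullyFlat B C] (h : DRing.HasFiniteTorDim A C) : DRing.HasFiniteTorDim A B := by
  obtain ⟨d, hd⟩ := (hasFiniteTorDim_iff C).1 h
  refine (hasFiniteTorDim_iff B).2 ⟨d, torAmp_of_lTensor_injective B C (fun L F _ _ _ _ g hg => ?_) hd⟩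
  let g' : B ⊗[A] L →ₗ[B] B ⊗[A] F := g.baseChange B
  let e := TensorProduct.AlgebraTensorModule.cancelBaseChange A B B C L
  let e' := TensorProduct.AlgebraTensorModule.cancelBaseChange A B B C F
  have hc : ∀ z, e' (g'.lTensor C z) = g.lTensor C (e z) := fun z => by
    induction z with
    | zero => simp
    | add a b ha hb => simp only [map_add, ha, hb]
    | tmul c y =>
      induction y with
      | zero => simp
      | add a b ha hb => simp only [tmul_add, map_add, ha, hb]
      | tmul b l => simp [e, e', g']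
  have h2 : Function.Injective (g'.lTensor C) := by
    intro a b hab
    exact e.injective (hg (by rw [← hc, ← hc, hab]))
  exact (Module.FaithfullyFlat.lTensor_injective_iff_injective B C g').1 h2

/-- The same along a flat local map of local rings. -/
theorem finiteTorDim_of_comp {R R' R'' : Type u} [CommRing R] [CommRing R'] [CommRing R''] [IsLocalRing R']
    [IsLocalRing R''] (φ : R →+* R') (ψ : R' →+* R'') [IsLocalHom ψ] (hψ : ψ.Flat)
    (h : letI := (ψ.comp φ).toAlgebra; DRing.HasFiniteTorDim R R'') :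
    letI := φ.toAlgebra
    DRing.HasFiniteTorDim R R' := by
  let _ := φ.toAlgebra
  let _ := ψ.toAlgebra
  let _ := (ψ.comp φ).toAlgebra
  have : IsScalarTower R R' R'' := .of_algebraMap_eq fun _ => rfl
  have : Module.Flat R' R'' := hψ
  have : IsLocalHom (algebraMap R' R'') := ‹IsLocalHom ψ›
  have : Module.FaithfullyFlat R' R'' := Module.FaithfullyFlat.of_flat_of_isLocalHom
  exact finiteTorDim_of_faithfullyFlat R'' h

end TorDim

section Scheme

/-- Pseudo-coherence descends along finite locally free covers of the source. -/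
theorem morPC_of_finLocFree {W U S : Scheme.{u}} (π : W ⟶ U) (g : U ⟶ S) (hπ : Mor2.IsFinLocFree π)
    [Surjective π] (h : MorPC (π ≫ g)) : MorPC g := by
  obtain ⟨_, _, _⟩ := hπ
  rw [iff_exists_appLE_pc]
  intro x
  obtain ⟨V, hV, hxV, -⟩ := exists_isAffineOpen_mem_and_subset (show g x ∈ (⊤ : S.Opens) from trivial)
  obtain ⟨U₀, hU, hxU, hUle⟩ := exists_isAffineOpen_mem_and_subset (show x ∈ g ⁻¹ᵁ V from hxV)
  refine ⟨⟨V, hV⟩, ⟨U₀, hU⟩, hxU, hUle, ?_⟩
  have hW : IsAffineOpen (π ⁻¹ᵁ U₀) := hU.preimage π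
  have h2 := HasRingHomProperty.appLE (P := MorPC) (π ≫ g) h ⟨V, hV⟩ ⟨π ⁻¹ᵁ U₀, hW⟩
    (π.preimage_mono hUle)
  rw [← Scheme.Hom.appLE_comp_appLE (f := π) (g := g) V U₀ (π ⁻¹ᵁ U₀) hUle le_rfl] at h2
  have hff := Groth.AlgSpCartier.faithfullyFlat_appLE π hU hW le_rfl fun y hy => by
    obtain ⟨w, rfl⟩ := π.surjective y
    exact ⟨w, hy, rfl⟩
  have hfp := HasRingHomProperty.appLE @LocallyOfFinitePresentation π inferInstance ⟨U₀, hU⟩ ⟨_, hW⟩ le_rfl
  let _ := (g.appLE V U₀ hUle).hom.toAlgebra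
  let _ := (π.appLE U₀ (π ⁻¹ᵁ U₀) le_rfl).hom.toAlgebra
  let _ := (g.appLE V U₀ hUle ≫ π.appLE U₀ (π ⁻¹ᵁ U₀) le_rfl).hom.toAlgebra
  have : IsScalarTower Γ(S, V) Γ(U, U₀) Γ(W, π ⁻¹ᵁ U₀) := .of_algebraMap_eq fun _ => rfl
  have : Module.FaithfullyFlat Γ(U, U₀) Γ(W, π ⁻¹ᵁ U₀) := hff
  have : Algebra.FinitePresentation Γ(U, U₀) Γ(W, π ⁻¹ᵁ U₀) := hfp
  have : Module.Finite Γ(U, U₀) Γ(W, π ⁻¹ᵁ U₀) := by
    have h3 := π.finite_app U₀ hU
    rw [← Scheme.Hom.appLE_eq_app] at h3
    exact h3
  exact pcHom_of_finite_cover (A := Γ(S, V)) (B := Γ(U, U₀)) (C := Γ(W, π ⁻¹ᵁ U₀)) h2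

/-- Pseudo-coherence is checked on an open cover of the source. -/
theorem morPC_of_opens {X S : Scheme.{u}} (f : X ⟶ S)
    (h : ∀ x : X, ∃ U : X.Opens, x ∈ U ∧ MorPC (U.ι ≫ f)) : MorPC f := by
  choose U hx hU using h
  exact IsZariskiLocalAtSource.of_iSup_eq_top U (eq_top_iff.2 fun x _ => TopologicalSpace.Opens.mem_iSup.2 ⟨x, hx x⟩) hU

theorem morPC_of_flat_lfp {X Y : Scheme.{u}} (a : X ⟶ Y) [Flat a] [LocallyOfFinitePresentation a] : MorPC a := by
  rw [morPC_iff]
  intro U V hU hV e
  let _ := (a.appLE V U e).hom.toAlgebra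
  have : Module.Flat Γ(Y, V) Γ(X, U) := HasRingHomProperty.appLE @Flat a inferInstance ⟨V, hV⟩ ⟨U, hU⟩ e
  have : Algebra.FinitePresentation Γ(Y, V) Γ(X, U) :=
    HasRingHomProperty.appLE @LocallyOfFinitePresentation a inferInstance ⟨V, hV⟩ ⟨U, hU⟩ e
  exact pcHom_of_flat_finitePresentation _ _

theorem morPerf_of_flat_lfp {X Y : Scheme.{u}} (a : X ⟶ Y) [Flat a] [LocallyOfFinitePresentation a] : MorPerf a := by
  rw [morPerf_iff]
  intro U V hU hV e
  let _ := (a.appLE V U e).hom.toAlgebra
  have : Module.Flat Γ(Y, V) Γ(X, U) := HasRingHomProperty.appLE @Flat a inferInstance ⟨V, hV⟩ ⟨U, hU⟩ e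
  have : Algebra.FinitePresentation Γ(Y, V) Γ(X, U) :=
    HasRingHomProperty.appLE @LocallyOfFinitePresentation a inferInstance ⟨V, hV⟩ ⟨U, hU⟩ e
  exact Groth.Agent.S7068.result _ _

/-- Pseudo-coherence descends along fppf covers of the source. -/
theorem morPC_of_fppf {X' X S : Scheme.{u}} (a : X' ⟶ X) (f : X ⟶ S) [Flat a] [Surjective a]
    [LocallyOfFinitePresentation a] (h : MorPC (a ≫ f)) : MorPC f := by
  refine morPC_of_opens f fun x => ?_
  let E : PreZeroHypercover.{0} X := ⟨PUnit, fun _ => X', fun _ => a⟩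
  obtain ⟨U, W, π, hxU, hπ, _, hW⟩ := Groth.Agent.S7198.result E (fun _ => ‹Flat a›)
    (fun _ => ‹LocallyOfFinitePresentation a›)
    (fun s => ⟨PUnit.unit, a.surjective s⟩) x
  refine ⟨U, hxU, morPC_of_finLocFree π _ hπ (morPC_of_opens _ fun w => ?_)⟩
  obtain ⟨W', T, ρ, i, r, hw, hρ, _, hr⟩ := hW w
  refine ⟨W', hw, morPC_of_finLocFree ρ _ hρ ?_⟩
  obtain ⟨_, _, _⟩ := hπ
  obtain ⟨_, _, _⟩ := hρ
  have hr' : r ≫ a = ρ ≫ W'.ι ≫ π ≫ U.ι := hr
  have h1 : MorPC (r ≫ a) := hr' ▸ morPC_of_flat_lfp _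
  have h2 := morPC_comp (morPC_cancel h1 (morPC_of_flat_lfp a)) h
  have he : ρ ≫ W'.ι ≫ π ≫ U.ι ≫ f = r ≫ a ≫ f := by
    rw [← Category.assoc r a f, hr']; simp
  exact he ▸ h2

/-- Perfection descends along fppf covers of the source. -/
theorem morPerf_of_fppf {X' X S : Scheme.{u}} (a : X' ⟶ X) (f : X ⟶ S) [Flat a] [Surjective a]
    [LocallyOfFinitePresentation a] (h : MorPerf (a ≫ f)) : MorPerf f := by
  have hpc' : MorPC (a ≫ f) :=
    (morPC_iff _).2 fun U V hU hV e => ((morPerf_iff _).1 h U V hU hV e).1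
  have hpc := morPC_of_fppf a f hpc'
  rw [morPerf_iff, Groth.Agent.S7174.result f ((morPC_iff f).1 hpc)]
  intro x
  obtain ⟨x', rfl⟩ := a.surjective x
  have h1 := (Groth.Agent.S7174.result (a ≫ f) ((morPC_iff _).1 hpc')).1 ((morPerf_iff _).1 h) x'
  rw [Scheme.Hom.stalkMap_comp] at h1
  exact finiteTorDim_of_comp (f.stalkMap (a x')).hom (a.stalkMap x').hom (Flat.stalkMap a x') h1

end Scheme

end Groth.PCohHom
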