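import Groth.Agent.DAlg.PCoh
import Groth.Agent.KoszulLCI.Perfect
import Mathlib.RingTheory.Finiteness.Descent
import Mathlib.RingTheory.Flat.Localization

/-!
# Finite levels of pseudo-coherence of modules; change of rings

`FPk R n M` says that `M[0]` is `(-n)`-pseudo-coherent.
-/

set_option autoImplicit false

universe u

open CategoryTheory CategoryTheory.Limits CategoryTheory.Pretriangulated TensorProduct

attribute [local instance] HasDerivedCategory.standard

namespace Groth.PCohHom

open Groth.DAlg PCohPunctual

section Basic

variable (R : Type u) [CommRing R]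

/-- `M[0]` is `(-n)`-pseudo-coherent. -/
def FPk (n : ℕ) (M : Type u) [AddCommGroup M] [Module R M] : Prop :=
  PCn (finFree R) (-(n : ℤ)) (mD (ModuleCat.of R M))

variable {R} {M N K F : Type u} [AddCommGroup M] [Module R M] [AddCommGroup N] [Module R N]
  [AddCommGroup K] [Module R K] [AddCommGroup F] [Module R F]

theorem fpk_zero_iff : FPk R 0 M ↔ Module.Finite R M := by
  unfold FPk
  rw [Nat.cast_zero, neg_zero]
  exact pcn_zero_mD_iff (ModuleCat.of R M)

theorem FPk.congr {n : ℕ} (h : FPk R n M) (e : M ≃ₗ[R] N) : FPk R n N :=
  PCn.of_iso h ((DerivedCategory.singleFunctor (ModuleCat.{u} R) 0).mapIso e.toModuleIso)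

theorem FPk.mono {n m : ℕ} (h : FPk R n M) (hmn : m ≤ n) : FPk R m M :=
  PCn.mono h (by omega)

theorem FPk.finite {n : ℕ} (h : FPk R n M) : Module.Finite R M :=
  fpk_zero_iff.1 (h.mono n.zero_le)

theorem pc_iff : DRing.IsPseudoCoherentModule' R M ↔ ∀ n, FPk R n M := by
  refine isPseudoCoherent'_iff_isPC.trans ⟨fun h n => h _, fun h m => ?_⟩
  exact PCn.mono (h (-m).toNat) (by omega)

theorem fpk_of_free [Module.Finite R M] [Module.Free R M] (n : ℕ) : FPk R n M :=
  pcn_mD_of_prop (isAdditiveSub_finFree R) (F := ModuleCat.of R M) ⟨‹_›, ‹_›⟩ _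

variable {i : K →ₗ[R] F} {π : F →ₗ[R] M}

theorem fpk_coker (hi : Function.Injective i) (he : Function.Exact i π) (hπ : Function.Surjective π) {n : ℕ}
    (hK : FPk R n K) (hF : FPk R (n + 1) F) : FPk R (n + 1) M :=
  PCn.cone (isAdditiveSub_finFree R) (isQuasiStable_finFree R) (isQuasiLiftable_finFree R)
    (KoszulLCI.shortExact_mk hi he hπ).singleTriangle_distinguished
    (PCn.mono hK (by omega)) hF

theorem fpk_ker (hi : Function.Injective i) (he : Function.Exact i π) (hπ : Function.Surjective π) {n : ℕ}
    (hF : FPk R n F) (hM : FPk R (n + 1) M) : FPk R n K :=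
  PCn.mono (PCn.fiber (n := -((n + 1 : ℕ) : ℤ)) (isAdditiveSub_finFree R) (isQuasiStable_finFree R)
    (isQuasiLiftable_finFree R) (KoszulLCI.shortExact_mk hi he hπ).singleTriangle_distinguished
    (PCn.mono hF (by omega)) hM) (by omega)

theorem fpk_ext (hi : Function.Injective i) (he : Function.Exact i π) (hπ : Function.Surjective π) {n : ℕ}
    (hK : FPk R n K) (hM : FPk R n M) : FPk R n F :=
  PCn.ext (isAdditiveSub_finFree R) (isQuasiStable_finFree R) (isQuasiLiftable_finFree R)
    (KoszulLCI.shortExact_mk hi he hπ).singleTriangle_distinguished hK hM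

theorem fpk_pi {n : ℕ} (h : FPk R n M) : ∀ r : ℕ, FPk R n (Fin r → M) := by
  intro r
  induction r with
  | zero =>
    have : Module.Free R (Fin 0 → M) := Module.Free.of_subsingleton R _
    exact fpk_of_free n
  | succ r ih =>
    refine fpk_ext (i := LinearMap.single R (fun _ : Fin (r + 1) => M) 0)
      (π := LinearMap.funLeft R M Fin.succ) (fun a b hab => by simpa using congrFun hab 0)
      ?_ (LinearMap.funLeft_surjective_of_injective R M _ (Fin.succ_injective r)) h ih
    intro f
    constructor
    · intro hf
      refine ⟨f 0, ?_⟩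
      funext a
      refine Fin.cases ?_ (fun b => ?_) a
      · simp
      · simpa using (congrFun hf b).symm
    · rintro ⟨x, rfl⟩
      funext b
      simp [LinearMap.funLeft_apply]

end Basic

section ChangeRings

variable {R S : Type u} [CommRing R] [CommRing S] [Algebra R S]

/-- If `S` is pseudo-coherent over `R`, pseudo-coherence over `S` gives it over `R`. -/
theorem fpk_restrictScalars : ∀ (n : ℕ), FPk R n S →
    ∀ (M : Type u) [AddCommGroup M] [Module R M] [Module S M] [IsScalarTower R S M],
    FPk S n M → FPk R n M := by
  intro n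
  induction n with
  | zero =>
    intro hS M _ _ _ _ h
    have := fpk_zero_iff.1 hS
    have := fpk_zero_iff.1 h
    exact fpk_zero_iff.2 (Module.Finite.trans S M)
  | succ n ih =>
    intro hS M _ _ _ _ h
    have := h.finite
    obtain ⟨r, π, hπ⟩ := Module.Finite.exists_fin' S M
    let K := LinearMap.ker π
    have hK : FPk S n K :=
      fpk_ker (i := K.subtype) (π := π) Subtype.val_injective π.exact_subtype_ker_map hπ (fpk_of_free n) h
    exact fpk_coker (R := R) (i := K.subtype.restrictScalars R) (π := π.restrictScalars R) Subtype.val_injective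
      π.exact_subtype_ker_map hπ (ih (hS.mono n.le_succ) K hK) (fpk_pi hS r)

/-- If `S` is pseudo-coherent over `R`, pseudo-coherence over `R` gives it over `S`. -/
theorem fpk_of_restrictScalars : ∀ (n : ℕ), FPk R n S →
    ∀ (M : Type u) [AddCommGroup M] [Module R M] [Module S M] [IsScalarTower R S M],
    FPk R n M → FPk S n M := by
  intro n
  induction n with
  | zero =>
    intro _ M _ _ _ _ h
    have := fpk_zero_iff.1 h
    exact fpk_zero_iff.2 (Module.Finite.of_restrictScalars_finite R S M)
  | succ n ih =>
    intro hS M _ _ _ _ h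
    have := h.finite
    have : Module.Finite S M := Module.Finite.of_restrictScalars_finite R S M
    obtain ⟨r, π, hπ⟩ := Module.Finite.exists_fin' S M
    let K := LinearMap.ker π
    have hK : FPk R n K :=
      fpk_ker (R := R) (i := K.subtype.restrictScalars R) (π := π.restrictScalars R) Subtype.val_injective
        π.exact_subtype_ker_map hπ (fpk_pi (hS.mono n.le_succ) r) h
    exact fpk_coker (R := S) (i := K.subtype) (π := π) Subtype.val_injective π.exact_subtype_ker_map hπ
      (ih (hS.mono n.le_succ) K hK) (fpk_of_free (n + 1))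

theorem pc_iff_restrictScalars (hS : DRing.IsPseudoCoherentModule' R S) (M : Type u) [AddCommGroup M]
    [Module R M] [Module S M] [IsScalarTower R S M] :
    DRing.IsPseudoCoherentModule' S M ↔ DRing.IsPseudoCoherentModule' R M := by
  rw [pc_iff, pc_iff]
  exact forall_congr' fun n => ⟨fpk_restrictScalars n (pc_iff.1 hS n) M, fpk_of_restrictScalars n (pc_iff.1 hS n) M⟩

/-- Flat base change preserves the levels of pseudo-coherence. -/
theorem fpk_baseChange [Module.Flat R S] : ∀ (n : ℕ) (M : Type u) [AddCommGroup M] [Module R M],
    FPk R n M → FPk S n (S ⊗[R] M) := by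
  intro n
  induction n with
  | zero =>
    intro M _ _ h
    have := fpk_zero_iff.1 h
    exact fpk_zero_iff.2 inferInstance
  | succ n ih =>
    intro M _ _ h
    have := h.finite
    obtain ⟨r, π, hπ⟩ := Module.Finite.exists_fin' R M
    let K := LinearMap.ker π
    have hK : FPk R n K :=
      fpk_ker (i := K.subtype) (π := π) Subtype.val_injective π.exact_subtype_ker_map hπ (fpk_of_free n) h
    exact fpk_coker (i := K.subtype.baseChange S) (π := π.baseChange S)
      (Module.Flat.lTensor_preserves_injective_linearMap K.subtype Subtype.val_injective)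
      (lTensor_exact S π.exact_subtype_ker_map hπ) (LinearMap.lTensor_surjective S hπ) (ih K hK)
      (fpk_of_free (n + 1))

/-- The levels of pseudo-coherence descend along faithfully flat ring maps. -/
theorem fpk_descent [Module.FaithfullyFlat R S] : ∀ (n : ℕ) (M : Type u) [AddCommGroup M] [Module R M],
    FPk S n (S ⊗[R] M) → FPk R n M := by
  intro n
  induction n with
  | zero =>
    intro M _ _ h
    have := fpk_zero_iff.1 h
    exact fpk_zero_iff.2 (Module.Finite.of_finite_tensorProduct_of_faithfullyFlat S)
  | succ n ih =>
    intro M _ _ h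
    have := h.finite
    have : Module.Finite R M := Module.Finite.of_finite_tensorProduct_of_faithfullyFlat S
    obtain ⟨r, π, hπ⟩ := Module.Finite.exists_fin' R M
    let K := LinearMap.ker π
    have hK : FPk S n (S ⊗[R] K) :=
      fpk_ker (i := K.subtype.baseChange S) (π := π.baseChange S)
        (Module.Flat.lTensor_preserves_injective_linearMap K.subtype Subtype.val_injective)
        (lTensor_exact S π.exact_subtype_ker_map hπ) (LinearMap.lTensor_surjective S hπ) (fpk_of_free n) h
    exact fpk_coker (i := K.subtype) (π := π) Subtype.val_injective π.exact_subtype_ker_map hπ (ih K hK)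
      (fpk_of_free (n + 1))

end ChangeRings

section Span

variable {R : Type u} [CommRing R]

/-- The levels of pseudo-coherence are Zariski local. -/
theorem fpk_of_span {t : Set R} (ht : Ideal.span t = ⊤) : ∀ (n : ℕ) (M : Type u) [AddCommGroup M] [Module R M],
    (∀ r : t, FPk (Localization.Away r.1) n (Localization.Away r.1 ⊗[R] M)) → FPk R n M := by
  intro n
  induction n with
  | zero =>
    intro M _ _ h
    exact fpk_zero_iff.2 (Module.Finite.of_localizationSpan' t ht (M := M)
      (fun r => TensorProduct.mk R (Localization.Away r.1) M 1) fun r => fpk_zero_iff.1 (h r))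
  | succ n ih =>
    intro M _ _ h
    have : Module.Finite R M := Module.Finite.of_localizationSpan' t ht (M := M)
      (fun r => TensorProduct.mk R (Localization.Away r.1) M 1) fun r => (h r).finite
    obtain ⟨m, π, hπ⟩ := Module.Finite.exists_fin' R M
    let K := LinearMap.ker π
    refine fpk_coker (i := K.subtype) (π := π) Subtype.val_injective π.exact_subtype_ker_map hπ
      (ih K fun r => ?_) (fpk_of_free (n + 1))
    exact fpk_ker (i := K.subtype.baseChange (Localization.Away r.1)) (π := π.baseChange (Localization.Away r.1))
      (Module.Flat.lTensor_preserves_injective_linearMap K.subtype Subtype.val_injective)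
      (lTensor_exact _ π.exact_subtype_ker_map hπ) (LinearMap.lTensor_surjective _ hπ) (fpk_of_free n) (h r)

end Span

end Groth.PCohHom
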