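import Groth.Agent.PCohHom.Hom
import Mathlib.AlgebraicGeometry.Morphisms.RingHomProperties
import Mathlib.RingTheory.Localization.BaseChange
import Mathlib.RingTheory.RingHom.FaithfullyFlat

/-!
# Pseudo-coherent ring maps are local; pseudo-coherent morphisms
-/

set_option autoImplicit false

universe u

open CategoryTheory TensorProduct AlgebraicGeometry

attribute [local instance] HasDerivedCategory.standard

namespace Groth.PCohHom

variable {A B : Type u} [CommRing A] [CommRing B] [Algebra A B]

attribute [local instance] MvPolynomial.algebraMvPolynomial in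
/-- Flat base change of pseudo-coherent ring maps. -/
theorem pcHom_baseChange {A' B' : Type u} [CommRing A'] [CommRing B'] [Algebra A A'] [Algebra A' B']
    [Algebra B B'] [Algebra A B'] [IsScalarTower A A' B'] [IsScalarTower A B B'] [Module.Flat A A']
    [Algebra.IsPushout A A' B B'] (h : MoreMor.IsPseudoCoherentHom A B) :
    MoreMor.IsPseudoCoherentHom A' B' := by
  obtain ⟨n, φ, hφ, hpc⟩ := h
  let P := MvPolynomial (Fin n) A
  let P' := MvPolynomial (Fin n) A'
  let φ' : P' →ₐ[A'] B' := MvPolynomial.aeval fun i => algebraMap B B' (φ (MvPolynomial.X i))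
  have hc : ∀ p : P, φ' (algebraMap P P' p) = algebraMap B B' (φ p) := fun p => by
    suffices φ'.toRingHom.comp (algebraMap P P') = (algebraMap B B').comp φ.toRingHom from RingHom.congr_fun this p
    refine MvPolynomial.ringHom_ext (fun a => ?_) fun i => ?_
    · simp [P, P', φ', ← IsScalarTower.algebraMap_apply A B B', ← IsScalarTower.algebraMap_apply A A' B']
    · simp [P, P', φ']
  let _ := φ.toRingHom.toAlgebra
  let _ := φ'.toRingHom.toAlgebra
  let _ : Algebra P B' := ((algebraMap B B').comp φ.toRingHom).toAlgebra
  have : IsScalarTower A P B := IsScalarTower.of_algebraMap_eq fun a => (φ.commutes a).symm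
  have : IsScalarTower A' P' B' := IsScalarTower.of_algebraMap_eq fun a => (φ'.commutes a).symm
  have : IsScalarTower P B B' := IsScalarTower.of_algebraMap_eq fun _ => rfl
  have : IsScalarTower P P' B' := IsScalarTower.of_algebraMap_eq fun p => (hc p).symm
  have : IsScalarTower A P B' := IsScalarTower.of_algebraMap_eq fun a => by
    rw [IsScalarTower.algebraMap_apply A B B', IsScalarTower.algebraMap_apply A P B]
    rfl
  have : IsScalarTower A P' B' := IsScalarTower.of_algebraMap_eq fun a => by
    rw [IsScalarTower.algebraMap_apply A A' B', IsScalarTower.algebraMap_apply A A' P',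
      ← IsScalarTower.algebraMap_apply A' P' B']
  have h1 : Algebra.IsPushout A P A' P' := inferInstance
  have h2 : Algebra.IsPushout A B A' B' := Algebra.IsPushout.symm ‹_›
  have : Algebra.IsPushout P B P' B' := (Algebra.IsPushout.comp_iff A P A' P').mp h2
  have : Algebra.IsPushout P P' B B' := Algebra.IsPushout.symm inferInstance
  have : Algebra.IsPushout A A' P P' := Algebra.IsPushout.symm h1
  have : Module.Flat P P' := Module.Flat.isBaseChange (R := A) (S := P) A' P' h1.out
  have hs : Function.Surjective φ' := fun y => by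
    obtain ⟨z, rfl⟩ := (Algebra.IsPushout.equiv A A' B B').surjective y
    induction z with
    | zero => exact ⟨0, by simp⟩
    | add x y hx hy =>
      obtain ⟨a, ha⟩ := hx
      obtain ⟨b, hb⟩ := hy
      exact ⟨a + b, by simp [ha, hb]⟩
    | tmul a b =>
      obtain ⟨p, rfl⟩ := hφ b
      refine ⟨algebraMap A' P' a * algebraMap P P' p, ?_⟩
      rw [Algebra.IsPushout.equiv_tmul, map_mul, φ'.commutes, hc]
  exact ⟨n, φ', hs, pcAlong_algebraMap.1 (pcAlong_baseChange (P := P) (B := B) (pcAlong_algebraMap.2 hpc))⟩

/-- Localisations are pseudo-coherent. -/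
theorem pcHom_away (r : A) (S : Type u) [CommRing S] [Algebra A S] [IsLocalization.Away r S] :
    MoreMor.IsPseudoCoherentHom A S := by
  have : Module.Flat A S := IsLocalization.flat S (Submonoid.powers r)
  have : Algebra.FinitePresentation A S := IsLocalization.Away.finitePresentation r
  exact pcHom_of_flat_finitePresentation A S

/-- Pseudo-coherence is local on the target. -/
theorem pcHom_of_span {t : Set B} (ht : Ideal.span t = ⊤)
    (h : ∀ g ∈ t, MoreMor.IsPseudoCoherentHom A (Localization.Away g)) : MoreMor.IsPseudoCoherentHom A B := by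
  have : Algebra.FiniteType A B :=
    Algebra.FiniteType.of_span_eq_top_target t ht fun g hg => finiteType_of_pcHom (h g hg)
  obtain ⟨n, φ, hφ⟩ := Algebra.FiniteType.iff_quotient_mvPolynomial''.1 this
  refine ⟨n, φ, hφ, ?_⟩
  let P := MvPolynomial (Fin n) A
  let _ := φ.toRingHom.toAlgebra
  have : IsScalarTower A P B := IsScalarTower.of_algebraMap_eq fun a => (φ.commutes a).symm
  let H : Set P := φ ⁻¹' t ∪ RingHom.ker φ.toRingHom
  have hH : Ideal.span H = ⊤ := by
    have h1 : (Ideal.span (φ ⁻¹' t)).map φ.toRingHom = ⊤ := by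
      rw [Ideal.map_span]
      show Ideal.span (φ '' (φ ⁻¹' t)) = ⊤
      rw [Set.image_preimage_eq t hφ, ht]
    have h2 := congrArg (Ideal.comap φ.toRingHom) h1
    rw [Ideal.comap_map_of_surjective' φ.toRingHom hφ, Ideal.comap_top] at h2
    rw [Ideal.span_union, Ideal.span_eq]
    exact h2
  refine pc_iff.2 fun m => fpk_of_span hH m B fun h' => ?_
  obtain ⟨x, hx⟩ := h'
  let Px := Localization.Away x
  show FPk Px m (Px ⊗[P] B)
  rcases hx with hx | hx
  · let g := φ x
    let Bg := Localization.Away g
    have hg : g ∈ t := hx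
    let ψ₀ : Px →+* Bg := Localization.awayMap φ.toRingHom x
    let _ : Algebra Px Bg := ψ₀.toAlgebra
    have : IsScalarTower P Px Bg := IsScalarTower.of_algebraMap_eq fun p => by
      show algebraMap B Bg (φ p) = ψ₀ (algebraMap P Px p)
      exact (IsLocalization.map_eq _ p).symm
    have : IsLocalization (Algebra.algebraMapSubmonoid B (Submonoid.powers x)) Bg := by
      rw [Algebra.algebraMapSubmonoid_powers]
      exact (inferInstance : IsLocalization.Away g Bg)
    have hpo : Algebra.IsPushout P Px B Bg := (Algebra.isPushout_of_isLocalization (Submonoid.powers x) Px B Bg).symm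
    let ψ : Px →ₐ[A] Bg :=
      { ψ₀ with
        commutes' := fun a => by
          show ψ₀ (algebraMap A Px a) = _
          rw [IsScalarTower.algebraMap_apply A P Px, IsScalarTower.algebraMap_apply A B Bg]
          exact ((IsScalarTower.algebraMap_apply P Px Bg (algebraMap A P a)).symm).trans
            (congrArg (algebraMap B Bg) (φ.commutes a)) }
    have hψ : Function.Surjective ψ := fun y => by
      obtain ⟨z, rfl⟩ := (Algebra.IsPushout.equiv P Px B Bg).surjective y
      induction z with
      | zero => exact ⟨0, by simp⟩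
      | add u v hu hv =>
        obtain ⟨a, ha⟩ := hu
        obtain ⟨b, hb⟩ := hv
        exact ⟨a + b, by simp [ha, hb]⟩
      | tmul a b =>
        obtain ⟨p, rfl⟩ := hφ b
        refine ⟨a * algebraMap P Px p, ?_⟩
        rw [Algebra.IsPushout.equiv_tmul, map_mul]
        show ψ₀ a * ψ₀ (algebraMap P Px p) = _
        congr 1
        exact (IsScalarTower.algebraMap_apply P Px Bg p).symm
    have hP : MoreMor.IsPseudoCoherentHom A Px :=
      pcHom_trans ⟨n, AlgHom.id A P, Function.surjective_id, pcAlong_bijective _ Function.bijective_id⟩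
        (pcHom_away x Px)
    have hBg := (pcHom_iff_of_surjective hP ψ hψ).1 (h g hg)
    exact ((pc_iff.1 (pcAlong_algebraMap.1 (show PCAlong (algebraMap Px Bg) from hBg))) m).congr
      (Algebra.IsPushout.equiv P Px B Bg).symm.toLinearEquiv
  · have hzero : ∀ z : Px ⊗[P] B, z = 0 := fun z => by
      induction z with
      | zero => rfl
      | add u v hu hv => rw [hu, hv, add_zero]
      | tmul a b =>
        obtain ⟨w, hw⟩ := isUnit_iff_exists_inv.1 (IsLocalization.Away.algebraMap_isUnit (S := Px) x)
        calc a ⊗ₜ[P] b = (algebraMap P Px x * (a * w)) ⊗ₜ[P] b := by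
              rw [mul_left_comm, hw, mul_one]
          _ = (a * w) ⊗ₜ[P] (x • b) := by rw [← Algebra.smul_def, smul_tmul]
          _ = 0 := by
              rw [Algebra.smul_def, show algebraMap P B x = 0 from RingHom.mem_ker.1 hx, zero_mul, tmul_zero]
    have : Subsingleton (Px ⊗[P] B) := ⟨fun a b => (hzero a).trans (hzero b).symm⟩
    have : Module.Free Px (Px ⊗[P] B) := Module.Free.of_subsingleton Px _
    exact fpk_of_free m

/-- Descent along faithfully flat ring maps. -/
theorem pcHom_of_baseChange {A' : Type u} [CommRing A'] [Algebra A A'] [Module.FaithfullyFlat A A']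
    (h : MoreMor.IsPseudoCoherentHom A' (A' ⊗[A] B)) : MoreMor.IsPseudoCoherentHom A B := by
  have := finiteType_of_pcHom h
  have hft : Algebra.FiniteType A B := Algebra.FiniteType.of_finiteType_tensorProduct_of_faithfullyFlat A'
  obtain ⟨n, φ, hφ⟩ := Algebra.FiniteType.iff_quotient_mvPolynomial''.1 hft
  refine ⟨n, φ, hφ, ?_⟩
  let P := MvPolynomial (Fin n) A
  let _ := φ.toRingHom.toAlgebra
  have : IsScalarTower A P B := IsScalarTower.of_algebraMap_eq fun a => (φ.commutes a).symm
  let P' := A' ⊗[A] P
  let _ : Algebra P P' := Algebra.TensorProduct.rightAlgebra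
  have h0 : Algebra.IsPushout A P A' P' := inferInstance
  have : Module.Flat P P' := Module.Flat.isBaseChange (R := A) (S := P) A' P' h0.out
  let ψ : P' →ₐ[A'] A' ⊗[A] B := Algebra.TensorProduct.map (AlgHom.id A' A') φ
  have hψ : Function.Surjective ψ := LinearMap.lTensor_surjective A' (g := φ.toLinearMap) hφ
  have hP : MoreMor.IsPseudoCoherentHom A' P' :=
    ⟨n, (MvPolynomial.algebraTensorAlgEquiv A A').symm.toAlgHom, (MvPolynomial.algebraTensorAlgEquiv A A').symm.surjective,
      pcAlong_bijective _ (MvPolynomial.algebraTensorAlgEquiv A A').symm.bijective⟩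
  have hpc := (pcHom_iff_of_surjective hP ψ hψ).1 h
  let _ := ψ.toRingHom.toAlgebra
  let _ : Algebra B (A' ⊗[A] B) := Algebra.TensorProduct.rightAlgebra
  let _ : Algebra P (A' ⊗[A] B) := (ψ.toRingHom.comp (algebraMap P P')).toAlgebra
  have : IsScalarTower P P' (A' ⊗[A] B) := IsScalarTower.of_algebraMap_eq fun _ => rfl
  have : IsScalarTower P B (A' ⊗[A] B) := IsScalarTower.of_algebraMap_eq fun p => by
    show ψ (1 ⊗ₜ p) = 1 ⊗ₜ φ p
    exact Algebra.TensorProduct.map_tmul _ _ _ _
  have : IsScalarTower A P (A' ⊗[A] B) := IsScalarTower.of_algebraMap_eq fun a => by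
    rw [IsScalarTower.algebraMap_apply P B (A' ⊗[A] B), ← IsScalarTower.algebraMap_apply A P B,
      Algebra.TensorProduct.algebraMap_apply]
    exact (Algebra.TensorProduct.tmul_one_eq_one_tmul a)
  have h1 : Algebra.IsPushout A P A' P' := inferInstance
  have h2 : Algebra.IsPushout A B A' (A' ⊗[A] B) := inferInstance
  have : IsScalarTower A P' (A' ⊗[A] B) := IsScalarTower.of_algebraMap_eq fun a => by
    show algebraMap A (A' ⊗[A] B) a = ψ (algebraMap A P' a)
    rw [IsScalarTower.algebraMap_apply A A' P', ψ.commutes, ← IsScalarTower.algebraMap_apply]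
  have : IsScalarTower A' P' (A' ⊗[A] B) := IsScalarTower.of_algebraMap_eq fun a => (ψ.commutes a).symm
  have : Algebra.IsPushout P B P' (A' ⊗[A] B) := (Algebra.IsPushout.comp_iff A P A' P').mp h2
  have : Algebra.IsPushout P P' B (A' ⊗[A] B) := Algebra.IsPushout.symm inferInstance
  have : Algebra.IsPushout A A' P P' := Algebra.IsPushout.symm h1
  have : Module.FaithfullyFlat P P' := by
    let e : P ⊗[A] A' ≃ₐ[P] P' := Algebra.IsPushout.equiv A P A' P'
    exact Module.FaithfullyFlat.of_linearEquiv _ _ e.symm.toLinearEquiv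
  exact pc_iff.2 fun m => fpk_descent m B (((pc_iff.1 hpc) m).congr
    (Algebra.IsPushout.equiv P P' B (A' ⊗[A] B)).symm.toLinearEquiv)

/-- The ring-hom property. -/
def RingPC {R S : Type u} [CommRing R] [CommRing S] (f : R →+* S) : Prop :=
  letI := f.toAlgebra
  MoreMor.IsPseudoCoherentHom R S

theorem ringPC_algebraMap {R S : Type u} [CommRing R] [CommRing S] [Algebra R S] :
    RingPC (algebraMap R S) ↔ MoreMor.IsPseudoCoherentHom R S := by
  unfold RingPC
  rw [show (algebraMap R S).toAlgebra = ‹Algebra R S› from Algebra.algebra_ext _ _ fun _ => rfl]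

theorem ringPC_stableUnderComposition : RingHom.StableUnderComposition @RingPC := by
  intro R S T _ _ _ f g hf hg
  let _ := f.toAlgebra
  let _ := g.toAlgebra
  let _ := (g.comp f).toAlgebra
  have : IsScalarTower R S T := .of_algebraMap_eq fun _ => rfl
  exact pcHom_trans (B := S) hf hg

theorem ringPC_holdsForLocalizationAway : RingHom.HoldsForLocalizationAway @RingPC := by
  intro R S _ _ _ r _
  exact ringPC_algebraMap.mpr (pcHom_away r S)

theorem ringPC_ofLocalizationSpanTarget : RingHom.OfLocalizationSpanTarget @RingPC := by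
  intro R S _ _ f s hs h
  let _ := f.toAlgebra
  exact pcHom_of_span hs fun g hg => ringPC_algebraMap.mp (h ⟨g, hg⟩)

theorem ringPC_propertyIsLocal : RingHom.PropertyIsLocal @RingPC where
  localizationAwayPreserves := by
    intro R S _ _ f r R' S' _ _ _ _ _ _ hf
    let _ := f.toAlgebra
    let F : R' →+* S' := IsLocalization.Away.map R' S' f r
    let _ := F.toAlgebra
    let _ : Algebra R S' := ((algebraMap S S').comp f).toAlgebra
    have : IsScalarTower R S S' := .of_algebraMap_eq fun _ => rfl
    have : IsScalarTower R R' S' := .of_algebraMap_eq fun x => by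
      show algebraMap S S' (f x) = F (algebraMap R R' x)
      simp [F, IsLocalization.Away.map]
    have : IsLocalization (Algebra.algebraMapSubmonoid S (Submonoid.powers r)) S' := by
      rw [Algebra.algebraMapSubmonoid_powers]
      assumption
    have : Algebra.IsPushout R R' S S' := (Algebra.isPushout_of_isLocalization (Submonoid.powers r) R' S S').symm
    have : Module.Flat R R' := IsLocalization.flat R' (Submonoid.powers r)
    show MoreMor.IsPseudoCoherentHom R' S'
    exact pcHom_baseChange (A := R) (B := S) hf
  ofLocalizationSpanTarget := ringPC_ofLocalizationSpanTarget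
  ofLocalizationSpan := RingHom.OfLocalizationSpanTarget.ofLocalizationSpan
    ringPC_ofLocalizationSpanTarget
    (ringPC_stableUnderComposition.stableUnderCompositionWithLocalizationAway
      ringPC_holdsForLocalizationAway).left
  StableUnderCompositionWithLocalizationAwayTarget :=
    (ringPC_stableUnderComposition.stableUnderCompositionWithLocalizationAway
      ringPC_holdsForLocalizationAway).right

theorem ringPC_isStableUnderFlatBaseChange {R S R' S' : Type u} [CommRing R] [CommRing S] [CommRing R']
    [CommRing S'] [Algebra R S] [Algebra R R'] [Algebra R' S'] [Algebra S S'] [Algebra R S']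
    [IsScalarTower R R' S'] [IsScalarTower R S S'] [Algebra.IsPushout R R' S S'] [Module.Flat R R']
    (h : RingPC (algebraMap R S)) : RingPC (algebraMap R' S') :=
  ringPC_algebraMap.mpr (pcHom_baseChange (A := R) (B := S) (ringPC_algebraMap.mp h))

/-- The morphism property. -/
def MorPC : MorphismProperty Scheme.{u} := affineLocally @RingPC

instance : HasRingHomProperty MorPC.{u} @RingPC := ⟨ringPC_propertyIsLocal, rfl⟩

theorem morPC_iff {X Y : Scheme.{u}} (f : X ⟶ Y) : MorPC f ↔ MoreMor.IsPseudoCoherentMor f := by
  rw [MorPC, affineLocally_iff_affineOpens_le]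
  exact ⟨fun h U V hU hV hUV => h ⟨V, hV⟩ ⟨U, hU⟩ hUV, fun h V U hUV => h U.1 V.1 U.2 V.2 hUV⟩

end Groth.PCohHom
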