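import Groth.Agent.PCohHom.Perf
import Groth.Agent.PCohHom.MorBaseChange

/-!
# Perfect morphisms
-/

set_option autoImplicit false

universe u

open CategoryTheory CategoryTheory.Limits TensorProduct AlgebraicGeometry TopologicalSpace

attribute [local instance] HasDerivedCategory.standard

namespace Groth.PCohHom

/-- The ring-hom property. -/
def RingPerf {R S : Type u} [CommRing R] [CommRing S] (f : R →+* S) : Prop :=
  letI := f.toAlgebra
  MoreMor.IsPerfectHom R S

theorem ringPerf_algebraMap {R S : Type u} [CommRing R] [CommRing S] [Algebra R S] :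
    RingPerf (algebraMap R S) ↔ MoreMor.IsPerfectHom R S := by
  unfold RingPerf
  rw [show (algebraMap R S).toAlgebra = ‹Algebra R S› from Algebra.algebra_ext _ _ fun _ => rfl]

theorem ringPerf_stableUnderComposition : RingHom.StableUnderComposition @RingPerf := by
  intro R S T _ _ _ f g hf hg
  let _ := f.toAlgebra
  let _ := g.toAlgebra
  let _ := (g.comp f).toAlgebra
  have : IsScalarTower R S T := .of_algebraMap_eq fun _ => rfl
  exact perfHom_trans (B := S) hf hg

theorem ringPerf_holdsForLocalizationAway : RingHom.HoldsForLocalizationAway @RingPerf := by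
  intro R S _ _ _ r _
  exact ringPerf_algebraMap.mpr (perfHom_away r S)

theorem ringPerf_ofLocalizationSpanTarget : RingHom.OfLocalizationSpanTarget @RingPerf := by
  intro R S _ _ f s hs h
  let _ := f.toAlgebra
  exact perfHom_of_span hs fun g hg => ringPerf_algebraMap.mp (h ⟨g, hg⟩)

theorem ringPerf_propertyIsLocal : RingHom.PropertyIsLocal @RingPerf where
  localizationAwayPreserves := by
    intro R S _ _ f r R' S' _ _ _ _ _ _ hf
    let _ := f.toAlgebra
    let F : R' →+* S' := IsLocalization.Away.map R' S' f r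
    let _ := F.toAlgebra
    let _ : Algebra R S' := ((algebraMap S S').comp f).toAlgebra
    have : IsScalarTower R S S' := .of_algebraMap_eq fun _ => rfl
    have : IsScalarTower R R' S' := .of_algebraMap_eq fun x => by
      show algebraMap S S' (f x) = F (algebraMap R R' x)
      simp [F, IsLocalization.Away.map]
    have : IsLocalization (Algebra.algebraMapSubmonoid S (Submonoid.powers r)) S' := by
      rw [Algebra.algebraMapSubmonoid_powers]
      assumption
    have : Algebra.IsPushout R R' S S' := (Algebra.isPushout_of_isLocalization (Submonoid.powers r) R' S S').symm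
    have : Module.Flat R R' := IsLocalization.flat R' (Submonoid.powers r)
    show MoreMor.IsPerfectHom R' S'
    exact perfHom_baseChange (A := R) (B := S) hf
  ofLocalizationSpanTarget := ringPerf_ofLocalizationSpanTarget
  ofLocalizationSpan := RingHom.OfLocalizationSpanTarget.ofLocalizationSpan
    ringPerf_ofLocalizationSpanTarget
    (ringPerf_stableUnderComposition.stableUnderCompositionWithLocalizationAway
      ringPerf_holdsForLocalizationAway).left
  StableUnderCompositionWithLocalizationAwayTarget :=
    (ringPerf_stableUnderComposition.stableUnderCompositionWithLocalizationAway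
      ringPerf_holdsForLocalizationAway).right

theorem ringPerf_isStableUnderFlatBaseChange {R S R' S' : Type u} [CommRing R] [CommRing S] [CommRing R']
    [CommRing S'] [Algebra R S] [Algebra R R'] [Algebra R' S'] [Algebra S S'] [Algebra R S']
    [IsScalarTower R R' S'] [IsScalarTower R S S'] [Algebra.IsPushout R R' S S'] [Module.Flat R R']
    (h : RingPerf (algebraMap R S)) : RingPerf (algebraMap R' S') :=
  ringPerf_algebraMap.mpr (perfHom_baseChange (A := R) (B := S) (ringPerf_algebraMap.mp h))

/-- The morphism property. -/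
def MorPerf : MorphismProperty Scheme.{u} := affineLocally @RingPerf

instance : HasRingHomProperty MorPerf.{u} @RingPerf := ⟨ringPerf_propertyIsLocal, rfl⟩

theorem morPerf_iff {X Y : Scheme.{u}} (f : X ⟶ Y) : MorPerf f ↔ MoreMor.IsPerfectMor f := by
  rw [MorPerf, affineLocally_iff_affineOpens_le]
  exact ⟨fun h U V hU hV hUV => h ⟨V, hV⟩ ⟨U, hU⟩ hUV, fun h V U hUV => h U.1 V.1 U.2 V.2 hUV⟩

theorem iff_exists_appLE_perf {X Y : Scheme.{u}} (f : X ⟶ Y) :
    MorPerf f ↔ ∀ (x : X), ∃ (U : Y.affineOpens) (V : X.affineOpens) (_ : x ∈ V.1) (e : V.1 ≤ f ⁻¹ᵁ U.1),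
      RingPerf (f.appLE U V e).hom :=
  HasRingHomProperty.iff_exists_appLE (f := f)
    (ringPerf_stableUnderComposition.stableUnderCompositionWithLocalizationAway
      ringPerf_holdsForLocalizationAway).left

set_option backward.isDefEq.respectTransparency false in
set_option backward.isDefEq.respectTransparency.types false in
theorem ringPerf_of_isPushout {R S R' S' : CommRingCat.{u}} {a : R ⟶ R'} {b : R ⟶ S} {c : R' ⟶ S'}
    {d : S ⟶ S'} (h : IsPushout a b c d) (ha : a.hom.Flat) (hb : RingPerf b.hom) : RingPerf c.hom := by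
  let _ := a.hom.toAlgebra
  let _ := b.hom.toAlgebra
  let _ := c.hom.toAlgebra
  let _ := d.hom.toAlgebra
  let _ := (a ≫ c).hom.toAlgebra
  have : IsScalarTower R R' S' := .of_algebraMap_eq fun _ => rfl
  have : IsScalarTower R S S' := .of_algebraMap_eq fun x =>
    RingHom.congr_fun (congrArg CommRingCat.Hom.hom h.w) x
  have : Algebra.IsPushout R R' S S' := CommRingCat.isPushout_iff_isPushout.mp h
  have : Module.Flat R R' := ha
  exact perfHom_baseChange (A := R) (B := S) hb

set_option backward.isDefEq.respectTransparency false in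
set_option backward.isDefEq.respectTransparency.types false in
/-- Flat base change. -/
theorem morPerf_baseChange {X S X' S' : Scheme.{u}} {f : X ⟶ S} {f' : X' ⟶ S'} {g' : X' ⟶ X} {g : S' ⟶ S}
    [Flat g] (hc : IsPullback g' f' f g) (hf : MorPerf f) : MorPerf f' := by
  rw [iff_exists_appLE_perf]
  intro x
  obtain ⟨V, hV, hxV, -⟩ := exists_isAffineOpen_mem_and_subset (show f (g' x) ∈ (⊤ : S.Opens) from trivial)
  have hx : g (f' x) ∈ V := by
    rw [← Scheme.Hom.comp_apply, ← hc.w, Scheme.Hom.comp_apply]
    exact hxV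
  obtain ⟨V', hV', hxV', hV'le⟩ := exists_isAffineOpen_mem_and_subset (show f' x ∈ g ⁻¹ᵁ V from hx)
  obtain ⟨U, hU, hxU, hUle⟩ := exists_isAffineOpen_mem_and_subset (show g' x ∈ f ⁻¹ᵁ V from hxV)
  let U' := g' ⁻¹ᵁ U ⊓ f' ⁻¹ᵁ V'
  have H := Scheme.Hom.isPullback_resLE hc (UT := V') (UX := U) hV'le hUle (UY := U') rfl
  have : IsAffine (V : Scheme.{u}) := hV
  have : IsAffine (U : Scheme.{u}) := hU
  have : IsAffine (V' : Scheme.{u}) := hV'
  have hU' : IsAffineOpen U' := (IsAffine.of_isPullback H : IsAffine (U' : Scheme.{u}))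
  have hp := isPushout_appTop_of_isPullback H
  have hfl : (g.resLE V V' hV'le).appTop.hom.Flat :=
    HasRingHomProperty.appTop @Flat (g.resLE V V' hV'le) inferInstance
  have hbase : RingPerf (f.resLE V U hUle).appTop.hom := by
    have := RingHom.toMorphismProperty_respectsIso_iff.mp ringPerf_propertyIsLocal.respectsIso.{u}
    refine ((RingHom.toMorphismProperty @RingPerf).arrow_mk_iso_iff (arrowResLEAppIso f V U hUle)).mpr ?_
    exact HasRingHomProperty.appLE (P := MorPerf) f hf ⟨V, hV⟩ ⟨U, hU⟩ hUle
  have hres : RingPerf (f'.resLE V' U' inf_le_right).appTop.hom := ringPerf_of_isPushout hp.flip hfl hbase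
  refine ⟨⟨V', hV'⟩, ⟨U', hU'⟩, ⟨hxU, hxV'⟩, inf_le_right, ?_⟩
  have := RingHom.toMorphismProperty_respectsIso_iff.mp ringPerf_propertyIsLocal.respectsIso.{u}
  exact ((RingHom.toMorphismProperty @RingPerf).arrow_mk_iso_iff
    (arrowResLEAppIso f' V' U' inf_le_right)).mp hres

theorem morPerf_comp {X Y Z : Scheme.{u}} {f : X ⟶ Y} {g : Y ⟶ Z} (hf : MorPerf f) (hg : MorPerf g) :
    MorPerf (f ≫ g) :=
  (HasRingHomProperty.stableUnderComposition (P := MorPerf) ringPerf_stableUnderComposition).comp_mem f g hf hg

theorem ringPerf_codescendsAlong : RingHom.CodescendsAlong @RingPerf @RingHom.FaithfullyFlat := by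
  refine .mk _ ringPerf_propertyIsLocal.respectsIso fun R S T _ _ _ _ _ h h' => ?_
  rw [RingHom.faithfullyFlat_algebraMap_iff] at h
  rw [ringPerf_algebraMap] at h' ⊢
  exact perfHom_of_baseChange (A' := S) h'

theorem morPerf_descends : MorPerf.{u}.DescendsAlong (@Surjective ⊓ @Flat ⊓ @QuasiCompact) :=
  descends_of_codescendsAlong MorPerf ringPerf_codescendsAlong

end Groth.PCohHom
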