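import Groth.Agent.PCohHom.MorPerf
import Groth.Agent.KoszulLCI.SmoothCancel

/-!
# Perfect maps cancel smooth ones
-/

set_option autoImplicit false

universe u

open CategoryTheory TensorProduct AlgebraicGeometry

attribute [local instance] HasDerivedCategory.standard

namespace Groth.PCohHom

open Groth.DAlg Groth.KoszulLCI

/-- `A → B` smooth and `A → C` perfect give `B → C` perfect. -/
theorem perfHom_cancel_smooth {A B C : Type u} [CommRing A] [CommRing B] [CommRing C] [Algebra A B] [Algebra A C]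
    [Algebra B C] [IsScalarTower A B C] [Algebra.Smooth A B] (h : MoreMor.IsPerfectHom A C) :
    MoreMor.IsPerfectHom B C := by
  have : Module.Flat A B := inferInstance
  refine ⟨pcHom_cancel (pcHom_of_flat_finitePresentation A B) h.1, ?_⟩
  let T := B ⊗[A] C
  let μ : T →ₐ[B] C := Algebra.TensorProduct.lift (Algebra.ofId B C) (AlgHom.id A C) fun _ _ => Commute.all _ _
  let _ : Algebra C T := Algebra.TensorProduct.rightAlgebra
  let _ := μ.toRingHom.toAlgebra
  have : IsScalarTower B T C := IsScalarTower.of_algebraMap_eq fun b => (μ.commutes b).symm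
  have : IsScalarTower C T C := IsScalarTower.of_algebraMap_eq fun c => by
    show c = μ (1 ⊗ₜ c)
    exact ((Algebra.TensorProduct.lift_tmul _ _ _ _ _).trans (by simp)).symm
  have : Algebra.Smooth C T := Algebra.Smooth.of_equiv
    { (Algebra.TensorProduct.comm A C B).toRingEquiv with
      commutes' := fun c => by
        show (Algebra.TensorProduct.comm A C B) (algebraMap C (C ⊗[A] B) c) = algebraMap C T c
        rw [Algebra.TensorProduct.algebraMap_apply]
        rfl : C ⊗[A] B ≃ₐ[C] T }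
  have hs : Function.Surjective (algebraMap T C) := fun c => ⟨1 ⊗ₜ c, (Algebra.TensorProduct.lift_tmul _ _ _ _ _).trans (by simp)⟩
  have hlci : LCI.IsLCI T C := isLCI_of_smooth_tower (A := C) (isLCI_of_smooth C)
  have hker := isKoszulRegularIdeal_of_isLCI_surjective hs hlci
  have hP : DRing.IsPerfectModule T C :=
    isPerfectModule_congr
      ((Ideal.quotientKerAlgEquivOfSurjective (f := Algebra.ofId T C) hs).toLinearEquiv)
      (perfect_quotient_of_isKoszulRegularIdeal hker)
  obtain ⟨hP1, hP2⟩ := perf_iff.1 hP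
  obtain ⟨e, he⟩ := (hasFiniteTorDim_iff C).1 h.2
  obtain ⟨d, hd⟩ := (hasFiniteTorDim_iff C).1 hP2
  exact (hasFiniteTorDim_iff C).2 ⟨d + e, torAmp_trans (S := T) (hasTorAmp_baseChange B C he) d C hP1 hd⟩

/-- `g` smooth and `f ≫ g` perfect give `f` perfect. -/
theorem morPerf_cancel_smooth {X Y S : Scheme.{u}} {f : X ⟶ Y} {g : Y ⟶ S} [Smooth g] (hX : MorPerf (f ≫ g)) :
    MorPerf f := by
  rw [iff_exists_appLE_perf]
  intro x
  obtain ⟨V, hV, hxV, -⟩ := exists_isAffineOpen_mem_and_subset (show g (f x) ∈ (⊤ : S.Opens) from trivial)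
  obtain ⟨W, hW, hxW, hWle⟩ := exists_isAffineOpen_mem_and_subset (show f x ∈ g ⁻¹ᵁ V from hxV)
  obtain ⟨U, hU, hxU, hUle⟩ := exists_isAffineOpen_mem_and_subset (show x ∈ f ⁻¹ᵁ W from hxW)
  refine ⟨⟨W, hW⟩, ⟨U, hU⟩, hxU, hUle, ?_⟩
  have h1 := HasRingHomProperty.appLE (P := @Smooth) g ‹_› ⟨V, hV⟩ ⟨W, hW⟩ hWle
  have h2 := HasRingHomProperty.appLE (P := MorPerf) (f ≫ g) hX ⟨V, hV⟩ ⟨U, hU⟩
    (hUle.trans (f.preimage_mono hWle))
  rw [← Scheme.Hom.appLE_comp_appLE (f := f) (g := g) V W U hWle hUle] at h2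
  let _ := (g.appLE V W hWle).hom.toAlgebra
  let _ := (f.appLE W U hUle).hom.toAlgebra
  let _ := (g.appLE V W hWle ≫ f.appLE W U hUle).hom.toAlgebra
  have : IsScalarTower Γ(S, V) Γ(Y, W) Γ(X, U) := .of_algebraMap_eq fun _ => rfl
  have : Algebra.Smooth Γ(S, V) Γ(Y, W) := h1
  exact perfHom_cancel_smooth (A := Γ(S, V)) (B := Γ(Y, W)) (C := Γ(X, U)) h2

end Groth.PCohHom
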